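import Mathlib

set_option autoImplicit false
set_option linter.unusedSimpArgs false
set_option linter.unusedTactic false
set_option linter.unreachableTactic false

/-!
Identities between "root elements" `1 + t • N` in an algebra, from relations between the `N`.
-/

namespace Cfsg.Agent.Lib.Helper5.D4Orth

variable {F : Type*} [Field F] {A : Type*} [Ring A] [Algebra F A]

theorem one_add_smul_mul (N : A) (h : N * N = 0) (t u : F) :
    (1 + t • N) * (1 + u • N) = 1 + (t + u) • N := by
  simp only [mul_add, add_mul, one_mul, mul_one, smul_mul_assoc, mul_smul_comm, h, smul_zero,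
    add_zero, add_smul]
  abel

theorem one_add_smul_mul' (R S : A) (t u : F) :
    (1 + t • R) * (1 + u • S) = 1 + t • R + u • S + (t * u) • (R * S) := by
  simp only [mul_add, add_mul, one_mul, mul_one, smul_mul_assoc, mul_smul_comm, smul_add,
    smul_smul]
  module

theorem comm_of_commute (R S : A) (h : R * S = S * R) (t u : F) :
    (1 + u • S) * (1 + t • R) = (1 + t • R) * (1 + u • S) := by
  rw [one_add_smul_mul', one_add_smul_mul', h, mul_comm u t]
  abel

theorem comm_of_rel (R S K : A) (c : F) (h : R * S - S * R = c • K) (hRK : R * K = 0)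
    (hSK : S * K = 0) (t u : F) :
    (1 + u • S) * (1 + t • R) = (1 + t • R) * (1 + u • S) * (1 + (c * (-t) * u) • K) := by
  have h' : R * S = S * R + c • K := by rw [← h]; abel
  have e1 : (1 + u • S) * K = K := by
    rw [add_mul, one_mul, smul_mul_assoc, hSK, smul_zero, add_zero]
  have e2 : ((1 + t • R) * (1 + u • S)) * K = K := by
    rw [mul_assoc, e1, add_mul, one_mul, smul_mul_assoc, hRK, smul_zero, add_zero]
  rw [mul_add ((1 + t • R) * (1 + u • S)), mul_one, mul_smul_comm, e2, one_add_smul_mul',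
    one_add_smul_mul', h', smul_add, smul_smul]
  module

/-- the element `n(t) = x(t) y(-t⁻¹) x(t)` of an `sl₂`-triple with `N² = M² = 0` -/
theorem nword_eq (N M : A) (hN : N * N = 0) (hNMN : N * M * N = N)
    (t : F) (ht : t ≠ 0) :
    (1 + t • N) * (1 + (-t⁻¹) • M) * (1 + t • N) = 1 - N * M - M * N + t • N - t⁻¹ • M := by
  have h1 : t * -t⁻¹ = -1 := by rw [mul_neg, mul_inv_cancel₀ ht]
  have h2 : -t⁻¹ * t = -1 := by rw [neg_mul, inv_mul_cancel₀ ht]
  rw [one_add_smul_mul', h1, mul_add, mul_one]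
  simp only [add_mul, one_mul, smul_mul_assoc, mul_smul_comm, smul_smul, hN, smul_zero, hNMN, h2]
  match_scalars <;> field_simp <;> ring

/-- the element `h(t) = n(t) n(-1)` -/
theorem hword_eq (N M : A) (hN : N * N = 0) (hM : M * M = 0) (hNMN : N * M * N = N)
    (hMNM : M * N * M = M) (t : F) (ht : t ≠ 0) :
    ((1 + t • N) * (1 + (-t⁻¹) • M) * (1 + t • N))
        * ((1 + (-1 : F) • N) * (1 + (-(-1 : F)⁻¹) • M) * (1 + (-1 : F) • N))
      = 1 + (t - 1) • (N * M) + (t⁻¹ - 1) • (M * N) := by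
  rw [nword_eq N M hN hNMN t ht, nword_eq N M hN hNMN (-1) (by norm_num)]
  have hNNM : N * (N * M) = 0 := by rw [← mul_assoc, hN, zero_mul]
  have hMMN : M * (M * N) = 0 := by rw [← mul_assoc, hM, zero_mul]
  have hNMN' : N * (M * N) = N := by rw [← mul_assoc, hNMN]
  have hMNM' : M * (N * M) = M := by rw [← mul_assoc, hMNM]
  have hNMNM : N * M * (N * M) = N * M := by rw [← mul_assoc, hNMN]
  have hMNMN : M * N * (M * N) = M * N := by rw [← mul_assoc, hMNM]
  have hNMMN : N * M * (M * N) = 0 := by rw [mul_assoc, hMMN, mul_zero]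
  have hMNNM : M * N * (N * M) = 0 := by rw [mul_assoc, hNNM, mul_zero]
  have hNMM : N * M * M = 0 := by rw [mul_assoc, hM, mul_zero]
  have hMNN : M * N * N = 0 := by rw [mul_assoc, hN, mul_zero]
  simp only [mul_add, add_mul, mul_sub, sub_mul, one_mul, mul_one, smul_mul_assoc, mul_smul_comm,
    smul_smul, hN, hM, hNNM, hMMN, hNMN', hMNM', hNMNM, hMNMN, hNMMN, hMNNM, hNMM, hMNN, hNMN,
    hMNM, smul_zero, inv_neg, inv_one, neg_neg, smul_sub, smul_add, sub_zero, add_zero, zero_sub,
    zero_add, neg_zero]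
  module

/-- multiplicativity of `h(t)` -/
theorem hform_mul (P Q : A) (hP : P * P = P) (hQ : Q * Q = Q) (hPQ : P * Q = 0) (hQP : Q * P = 0)
    (t u : F) (ht : t ≠ 0) (hu : u ≠ 0) :
    (1 + (t - 1) • P + (t⁻¹ - 1) • Q) * (1 + (u - 1) • P + (u⁻¹ - 1) • Q)
      = 1 + (t * u - 1) • P + ((t * u)⁻¹ - 1) • Q := by
  simp only [mul_add, add_mul, one_mul, mul_one, smul_mul_assoc, mul_smul_comm, smul_smul, hP, hQ,
    hPQ, hQP, smul_zero, add_zero, smul_add]
  match_scalars
  · ring
  · ring
  · field_simp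
    ring

end Cfsg.Agent.Lib.Helper5.D4Orth
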