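import Mathlib
import Cfsg.Prelude.Def_ChevStructure
import Cfsg.Prelude.Def_LieTypes
import Cfsg.Prelude.Def_ChevB2

set_option autoImplicit false

/-!
The root vectors of `so₈⁺` as integer matrices, in the order of the roots of `chevD4`, and the
relations between them (checked by evaluation).

Coordinates on `Fin 8`: `e₁, e₂, e₃, e₄, f₁, f₂, f₃, f₄`; the form is `Σ xᵢ x_{i+4}`.
-/

namespace Cfsg.Agent.Lib.Helper5.D4Orth

open Cfsg Cfsg.Lie Matrix

/-- the conjugate coordinate -/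
def cj (i : Fin 8) : Fin 8 := i + 4

theorem cj_cj (i : Fin 8) : cj (cj i) = i := by
  revert i
  decide

/-- row index of the root vector -/
def aI (r : ℕ) : Fin 8 :=
  #[5, 6, 3, 7, 2, 1, 6, 3, 7, 2, 3, 7, 2, 2, 1, 1, 1, 1, 0, 0, 0, 0, 0, 0].getD r 0

/-- column index of the root vector -/
def bI (r : ℕ) : Fin 8 :=
  #[0, 0, 0, 0, 0, 0, 1, 1, 1, 1, 2, 2, 7, 3, 2, 7, 3, 6, 1, 2, 7, 3, 6, 5].getD r 0

/-- sign of the root vector -/
def epsZ (r : ℕ) : ℤ :=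
  #[1, 1, 1, 1, -1, 1, -1, -1, -1, 1, 1, 1, 1, 1, 1, -1, -1, -1, 1, -1, 1, 1, 1, 1].getD r 1

/-- the integer matrix `E_{ab} - E_{b̄ā}` -/
def elZ (a b : Fin 8) : Matrix (Fin 8) (Fin 8) ℤ :=
  Matrix.of fun i j => (if i = a ∧ j = b then 1 else 0) - (if i = cj b ∧ j = cj a then 1 else 0)

/-- the root vector `e_r` -/
def NZ (r : ℕ) : Matrix (Fin 8) (Fin 8) ℤ := epsZ r • elZ (aI r) (bI r)

/-- unrolled product -/
def mul8 (A B : Matrix (Fin 8) (Fin 8) ℤ) : Matrix (Fin 8) (Fin 8) ℤ :=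
  Matrix.of fun i k => A i 0 * B 0 k + A i 1 * B 1 k + A i 2 * B 2 k + A i 3 * B 3 k
    + A i 4 * B 4 k + A i 5 * B 5 k + A i 6 * B 6 k + A i 7 * B 7 k

theorem mul8_eq (A B : Matrix (Fin 8) (Fin 8) ℤ) : mul8 A B = A * B := by
  ext i k
  simp only [mul8, Matrix.of_apply, Matrix.mul_apply, Fin.sum_univ_eight]

/-- the list of coordinates -/
def idx8 : List (Fin 8) := [0, 1, 2, 3, 4, 5, 6, 7]

/-- boolean equality -/
def eq8 (A B : Matrix (Fin 8) (Fin 8) ℤ) : Bool :=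
  idx8.all fun i => idx8.all fun j => decide (A i j = B i j)

theorem eq8_iff (A B : Matrix (Fin 8) (Fin 8) ℤ) (h : eq8 A B = true) : A = B := by
  ext i j
  unfold eq8 at h
  rw [List.all_eq_true] at h
  have hi : i ∈ idx8 := by revert i; decide
  have hj : j ∈ idx8 := by revert j; decide
  have := h i hi
  rw [List.all_eq_true] at this
  simpa using this j hj

/-- `N_r² = 0` and `N_r N_{-r} N_r = N_r` -/
def chkSl2 (r : ℕ) : Bool :=
  eq8 (mul8 (NZ r) (NZ r)) 0 && eq8 (mul8 (NZ r) (mul8 (NZ (23 - r)) (NZ r))) (NZ r)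

theorem chkSl2_all : ∀ r < 24, chkSl2 r = true := by decide +kernel

/-- the commutator relation of the pair `(r, s)` -/
def chkComm (r s : ℕ) : Bool :=
  match chevD4.commTerms r s with
  | [] => eq8 (mul8 (NZ r) (NZ s)) (mul8 (NZ s) (NZ r))
  | [(k, c, 1, 1)] =>
      eq8 (mul8 (NZ r) (NZ s) - mul8 (NZ s) (NZ r)) (c • NZ k) && eq8 (mul8 (NZ r) (NZ k)) 0
        && eq8 (mul8 (NZ s) (NZ k)) 0 && decide (k < 24)
  | _ => false

theorem chkComm_all : ∀ r < 24, ∀ s < 24, s ≠ r → s + r ≠ 23 → chkComm r s = true := by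
  decide +kernel

end Cfsg.Agent.Lib.Helper5.D4Orth
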