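import Mathlib
import Cfsg.Prelude.Def_Classical
import Cfsg.Agent.Lib.Helper5.D4Orth.Tab
import Cfsg.Agent.Lib.Helper5.D4Orth.Alg

set_option autoImplicit false
set_option linter.unusedSimpArgs false
set_option linter.unusedTactic false
set_option linter.unreachableTactic false

/-!
The root elements of `O₈⁺(F)`.
-/

namespace Cfsg.Agent.Lib.Helper5.D4Orth

open Cfsg Cfsg.Lie Matrix

variable {F : Type*} [Field F]

/-- the form `x₁y₁ + x₂y₂ + x₃y₃ + x₄y₄` -/
def Q8 (v : Fin 8 → F) : F := v 0 * v 4 + v 1 * v 5 + v 2 * v 6 + v 3 * v 7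

/-- reduction of integer matrices -/
def castM (F : Type*) [Field F] : Matrix (Fin 8) (Fin 8) ℤ →+* Matrix (Fin 8) (Fin 8) F :=
  (Int.castRingHom F).mapMatrix

/-- `E_{ab} - E_{b̄ā}` -/
def elF (a b : Fin 8) : Matrix (Fin 8) (Fin 8) F := castM F (elZ a b)

theorem elF_apply (a b i j : Fin 8) : (elF a b : Matrix (Fin 8) (Fin 8) F) i j
    = (if i = a ∧ j = b then 1 else 0) - (if i = cj b ∧ j = cj a then 1 else 0) := by
  unfold elF castM elZ
  simp only [RingHom.mapMatrix_apply, Matrix.map_apply, Matrix.of_apply, Int.coe_castRingHom,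
    Int.cast_sub, Int.cast_ite, Int.cast_one, Int.cast_zero]

theorem elF_mulVec (a b : Fin 8) (v : Fin 8 → F) (i : Fin 8) :
    ((elF a b : Matrix (Fin 8) (Fin 8) F) *ᵥ v) i
      = (if i = a then v b else 0) - (if i = cj b then v (cj a) else 0) := by
  unfold Matrix.mulVec dotProduct
  simp only [elF_apply, sub_mul, Finset.sum_sub_distrib, ite_mul, one_mul, zero_mul, ite_and]
  congr 1
  · split_ifs with h
    · rw [Finset.sum_ite_eq' Finset.univ b]
      simp
    · simp
  · split_ifs with h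
    · rw [Finset.sum_ite_eq' Finset.univ (cj a)]
      simp
    · simp

/-- the elementary orthogonal matrices -/
def Tm (a b : Fin 8) (t : F) : Matrix (Fin 8) (Fin 8) F := 1 + t • elF a b

theorem Tm_mulVec (a b : Fin 8) (t : F) (v : Fin 8 → F) (i : Fin 8) :
    (Tm a b t *ᵥ v) i
      = v i + t * ((if i = a then v b else 0) - (if i = cj b then v (cj a) else 0)) := by
  unfold Tm
  rw [Matrix.add_mulVec, Matrix.one_mulVec, Matrix.smul_mulVec, Pi.add_apply, Pi.smul_apply,
    elF_mulVec, smul_eq_mul]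

/-- the root vectors -/
def NF (r : ℕ) : Matrix (Fin 8) (Fin 8) F := castM F (NZ r)

theorem NF_eq (r : ℕ) : (NF r : Matrix (Fin 8) (Fin 8) F) = (epsZ r : F) • elF (aI r) (bI r) := by
  unfold NF NZ elF
  rw [map_zsmul, Int.cast_smul_eq_zsmul]

/-- the root elements -/
def xm (r : ℕ) (t : F) : Matrix (Fin 8) (Fin 8) F := 1 + t • NF r

theorem xm_eq_Tm (r : ℕ) (t : F) : xm r t = Tm (aI r) (bI r) (t * (epsZ r : F)) := by
  unfold xm Tm
  rw [NF_eq, smul_smul]

theorem castM_mul8 (A B : Matrix (Fin 8) (Fin 8) ℤ) :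
    castM F (mul8 A B) = castM F A * castM F B := by
  rw [mul8_eq, map_mul]

theorem NF_sq (r : ℕ) (hr : r < 24) : (NF r : Matrix (Fin 8) (Fin 8) F) * NF r = 0 := by
  have h := chkSl2_all r hr
  unfold chkSl2 at h
  rw [Bool.and_eq_true] at h
  have h1 := eq8_iff _ _ h.1
  unfold NF
  rw [← castM_mul8, h1, map_zero]

theorem NF_sl2 (r : ℕ) (hr : r < 24) :
    (NF r : Matrix (Fin 8) (Fin 8) F) * NF (23 - r) * NF r = NF r := by
  have h := chkSl2_all r hr
  unfold chkSl2 at h
  rw [Bool.and_eq_true] at h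
  have h1 := eq8_iff _ _ h.2
  unfold NF
  rw [mul_assoc, ← castM_mul8, ← castM_mul8, h1]

theorem xm_add (r : ℕ) (hr : r < 24) (t u : F) : xm r t * xm r u = xm r (t + u) :=
  one_add_smul_mul (NF r) (NF_sq r hr) t u

theorem xm_zero (r : ℕ) : xm r (0 : F) = 1 := by
  unfold xm
  rw [zero_smul, add_zero]

end Cfsg.Agent.Lib.Helper5.D4Orth
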