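import Mathlib
import Cfsg.Prelude.Def_Classical
import Cfsg.Agent.Lib.Helper5.D4Orth.Mat

set_option autoImplicit false
set_option linter.unusedSimpArgs false
set_option linter.unusedTactic false
set_option linter.unreachableTactic false

/-!
Steinberg's relations for the root elements of `O₈⁺(F)`.
-/

namespace Cfsg.Agent.Lib.Helper5.D4Orth

open Cfsg Cfsg.Lie Matrix

variable {F : Type*} [Field F]

theorem neg_d4 (r : ℕ) (hr : r < 24) : chevD4.neg r = 23 - r := by
  interval_cases r <;> rfl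

theorem xm_neg_mul (r : ℕ) (hr : r < 24) (t : F) : xm r (-t) * xm r t = 1 := by
  rw [xm_add r hr, neg_add_cancel, xm_zero]

theorem xm_mul_neg (r : ℕ) (hr : r < 24) (t : F) : xm r t * xm r (-t) = 1 := by
  rw [xm_add r hr, add_neg_cancel, xm_zero]

/-- Chevalley's commutator formula for the root elements of `O₈⁺` -/
theorem xm_comm (r s : ℕ) (hr : r < 24) (hs : s < 24) (h1 : s ≠ r) (h2 : s + r ≠ 23) (t u : F) :
    xm s (-u) * xm r (-t) * xm s u * xm r t
      = ((chevD4.commWord F r s t u).map fun p => xm p.1 p.2).prod := by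
  have h := chkComm_all r hr s hs h1 h2
  unfold chkComm at h
  unfold ChevalleyDatum.commWord
  split at h
  · rename_i heq
    rw [heq]
    simp only [List.map_nil, List.prod_nil]
    have hc := eq8_iff _ _ h
    have hRS : (NF r : Matrix (Fin 8) (Fin 8) F) * NF s = NF s * NF r := by
      unfold NF
      rw [← castM_mul8, ← castM_mul8, hc]
    have key : xm s u * xm r t = xm r t * xm s u := comm_of_commute (NF r) (NF s) hRS t u
    rw [mul_assoc, key, mul_assoc, ← mul_assoc (xm r (-t)), xm_neg_mul r hr, one_mul,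
      xm_neg_mul s hs]
  · rename_i k c heq
    rw [heq]
    simp only [List.map_cons, List.map_nil, List.prod_cons, List.prod_nil, mul_one, pow_one]
    rw [Bool.and_eq_true, Bool.and_eq_true, Bool.and_eq_true] at h
    obtain ⟨⟨⟨hc1, hc2⟩, hc3⟩, -⟩ := h
    have hc1 := eq8_iff _ _ hc1
    have hc2 := eq8_iff _ _ hc2
    have hc3 := eq8_iff _ _ hc3
    have hRS : (NF r : Matrix (Fin 8) (Fin 8) F) * NF s - NF s * NF r = (c : F) • NF k := by
      unfold NF
      rw [← castM_mul8, ← castM_mul8, ← map_sub, hc1, map_zsmul, Int.cast_smul_eq_zsmul]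
    have hRK : (NF r : Matrix (Fin 8) (Fin 8) F) * NF k = 0 := by
      unfold NF
      rw [← castM_mul8, hc2, map_zero]
    have hSK : (NF s : Matrix (Fin 8) (Fin 8) F) * NF k = 0 := by
      unfold NF
      rw [← castM_mul8, hc3, map_zero]
    have key : xm s u * xm r t = xm r t * xm s u * xm k ((c : F) * (-t) * u) :=
      comm_of_rel (NF r) (NF s) (NF k) (c : F) hRS hRK hSK t u
    rw [mul_assoc, key, mul_assoc, mul_assoc, ← mul_assoc (xm r (-t)), xm_neg_mul r hr, one_mul,
      ← mul_assoc, xm_neg_mul s hs, one_mul]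
  · exact absurd h (by simp)

/-- the value of `h_r(t)` -/
def hval (r : ℕ) (t : F) : Matrix (Fin 8) (Fin 8) F :=
  1 + (t - 1) • (NF r * NF (23 - r)) + (t⁻¹ - 1) • (NF (23 - r) * NF r)

theorem hWord_prod (r : ℕ) (hr : r < 24) (t : F) (ht : t ≠ 0) :
    ((chevD4.hWord r t).map fun p => xm p.1 p.2).prod = hval r t := by
  unfold ChevalleyDatum.hWord ChevalleyDatum.nWord
  rw [neg_d4 r hr]
  simp only [List.map_append, List.map_cons, List.map_nil, List.prod_append, List.prod_cons,
    List.prod_nil, mul_one]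
  have hr' : 23 - r < 24 := by omega
  have hrr : 23 - (23 - r) = r := by omega
  have hM := NF_sl2 (F := F) (23 - r) hr'
  rw [hrr] at hM
  rw [← mul_assoc (xm r t) (xm (23 - r) (-t⁻¹)) (xm r t),
    ← mul_assoc (xm r (-1)) (xm (23 - r) (-(-1)⁻¹)) (xm r (-1))]
  exact hword_eq (NF r) (NF (23 - r)) (NF_sq r hr) (NF_sq (23 - r) hr') (NF_sl2 r hr) hM t ht

theorem hval_mul (r : ℕ) (hr : r < 24) (t u : F) (ht : t ≠ 0) (hu : u ≠ 0) :
    hval r t * hval r u = hval r (t * u) := by
  have hr' : 23 - r < 24 := by omega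
  have hrr : 23 - (23 - r) = r := by omega
  have hM := NF_sl2 (F := F) (23 - r) hr'
  rw [hrr] at hM
  have hN := NF_sl2 (F := F) r hr
  unfold hval
  apply hform_mul _ _ _ _ _ _ t u ht hu
  · rw [← mul_assoc, hN]
  · rw [← mul_assoc, hM]
  · rw [mul_assoc, ← mul_assoc (NF (23 - r)), NF_sq (23 - r) hr', zero_mul, mul_zero]
  · rw [mul_assoc, ← mul_assoc (NF r), NF_sq r hr, zero_mul, mul_zero]

end Cfsg.Agent.Lib.Helper5.D4Orth
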