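import Mathlib
import Cfsg.Prelude.Def_ChevStructure
import Cfsg.Prelude.Def_Classical
import Cfsg.Agent.Lib.Helper5.D4Orth.Rel
import Cfsg.Agent.Lib.Helper5.StPres.FromPres

set_option autoImplicit false
set_option linter.unusedSimpArgs false
set_option linter.unusedTactic false
set_option linter.unreachableTactic false

/-!
The subgroup `E` of `O₈⁺(F)` generated by the root elements, as a quotient of the Steinberg group
of type `D₄`.
-/

namespace Cfsg.Agent.Lib.Helper5.D4Orth

open Cfsg Cfsg.Lie Matrix Cfsg.Agent.Lib.Helper5.StPres Cfsg.Agent.Lib.Helper5.ChevStruct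

variable {F : Type*} [Field F]

theorem elZ_sq : ∀ a b : Fin 8, a ≠ b → eq8 (mul8 (elZ a b) (elZ a b)) 0 = true := by
  decide +kernel

theorem elF_sq (a b : Fin 8) (hab : a ≠ b) :
    (elF a b : Matrix (Fin 8) (Fin 8) F) * elF a b = 0 := by
  unfold elF
  rw [← castM_mul8, eq8_iff _ _ (elZ_sq a b hab), map_zero]

theorem Tm_add (a b : Fin 8) (hab : a ≠ b) (t u : F) : Tm a b t * Tm a b u = Tm a b (t + u) :=
  one_add_smul_mul (elF a b) (elF_sq a b hab) t u

theorem Tm_zero (a b : Fin 8) : Tm a b (0 : F) = 1 := by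
  unfold Tm
  rw [zero_smul, add_zero]

theorem Tm_isom (a b : Fin 8) (h1 : a ≠ b) (h2 : a ≠ cj b) (t : F) (v : Fin 8 → F) :
    Q8 (Tm a b t *ᵥ v) = Q8 v := by
  unfold Q8
  simp only [Tm_mulVec]
  fin_cases a <;> fin_cases b <;> first
    | exact absurd rfl h1
    | exact absurd rfl h2
    | (simp [cj]; ring)

/-- the orthogonal group `O₈⁺` -/
abbrev O8 (F : Type*) [Field F] : Type _ := ↥(isometryGroup F (Q8 (F := F)))

/-- the elementary matrices as invertible matrices -/
def Tg (a b : Fin 8) (hab : a ≠ b) (t : F) : GL (Fin 8) F :=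
  ⟨Tm a b t, Tm a b (-t), by rw [Tm_add a b hab, add_neg_cancel, Tm_zero],
    by rw [Tm_add a b hab, neg_add_cancel, Tm_zero]⟩

/-- the elementary matrices in `O₈⁺` (the identity for bad indices) -/
def TO (a b : Fin 8) (t : F) : O8 F :=
  if h : a ≠ b ∧ a ≠ cj b then ⟨Tg a b h.1 t, fun u _ => Tm_isom a b h.1 h.2 t u⟩ else 1

theorem TO_val (a b : Fin 8) (h1 : a ≠ b) (h2 : a ≠ cj b) (t : F) :
    (((TO a b t : O8 F) : GL (Fin 8) F) : Matrix (Fin 8) (Fin 8) F) = Tm a b t := by
  unfold TO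
  rw [dif_pos ⟨h1, h2⟩]
  rfl

theorem O8_ext {g h : O8 F}
    (e : ((g : GL (Fin 8) F) : Matrix (Fin 8) (Fin 8) F) = ((h : GL (Fin 8) F) : Matrix _ _ F)) :
    g = h := by
  apply Subtype.ext
  apply Units.ext
  exact e

theorem TO_add (a b : Fin 8) (h1 : a ≠ b) (h2 : a ≠ cj b) (t u : F) :
    TO a b t * TO a b u = TO a b (t + u) := by
  apply O8_ext
  rw [Subgroup.coe_mul, Units.val_mul, TO_val a b h1 h2, TO_val a b h1 h2, TO_val a b h1 h2,
    Tm_add a b h1]

theorem TO_zero (a b : Fin 8) : TO a b (0 : F) = 1 := by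
  by_cases h : a ≠ b ∧ a ≠ cj b
  · apply O8_ext
    rw [TO_val a b h.1 h.2, Tm_zero]
    rfl
  · unfold TO
    rw [dif_neg h]

theorem TO_inv (a b : Fin 8) (h1 : a ≠ b) (h2 : a ≠ cj b) (t : F) :
    (TO a b t)⁻¹ = TO a b (-t) := by
  rw [inv_eq_iff_mul_eq_one, TO_add a b h1 h2, add_neg_cancel, TO_zero]

theorem valid_tab : ∀ r < 24, aI r ≠ bI r ∧ aI r ≠ cj (bI r) := by decide

/-- the root elements in `O₈⁺` -/
def xO (r : ℕ) (t : F) : O8 F := if r < 24 then TO (aI r) (bI r) (t * (epsZ r : F)) else 1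

theorem xO_val (r : ℕ) (hr : r < 24) (t : F) :
    (((xO r t : O8 F) : GL (Fin 8) F) : Matrix (Fin 8) (Fin 8) F) = xm r t := by
  unfold xO
  rw [if_pos hr, TO_val _ _ (valid_tab r hr).1 (valid_tab r hr).2, xm_eq_Tm]

theorem xO_add (r : ℕ) (t u : F) : xO r t * xO r u = xO r (t + u) := by
  by_cases hr : r < 24
  · apply O8_ext
    rw [Subgroup.coe_mul, Units.val_mul, xO_val r hr, xO_val r hr, xO_val r hr, xm_add r hr]
  · unfold xO
    rw [if_neg hr, if_neg hr, if_neg hr, one_mul]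

theorem xO_zero (r : ℕ) : xO r (0 : F) = 1 := by
  unfold xO
  split
  · rw [zero_mul, TO_zero]
  · rfl

theorem xO_inv (r : ℕ) (t : F) : (xO r t)⁻¹ = xO r (-t) := by
  rw [inv_eq_iff_mul_eq_one, xO_add, add_neg_cancel, xO_zero]

/-- the subgroup generated by the root elements -/
def E8 (F : Type*) [Field F] : Subgroup (O8 F) :=
  Subgroup.closure {g | ∃ (r : ℕ) (t : F), r < 24 ∧ g = xO r t}

theorem xO_mem (r : ℕ) (t : F) : xO r t ∈ E8 F := by
  by_cases hr : r < 24
  · exact Subgroup.subset_closure ⟨r, t, hr, rfl⟩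
  · have : xO r t = 1 := by
      unfold xO
      rw [if_neg hr]
    rw [this]
    exact one_mem _

theorem root_of_pair : ∀ a b : Fin 8, a ≠ b → a ≠ cj b →
    ∃ r < 24, (aI r = a ∧ bI r = b) ∨ (aI r = cj b ∧ bI r = cj a) := by
  decide

theorem epsZ_sq : ∀ r < 24, epsZ r * epsZ r = 1 := by decide

theorem elF_cj (a b : Fin 8) : (elF (cj b) (cj a) : Matrix (Fin 8) (Fin 8) F) = - elF a b := by
  ext i j
  rw [Matrix.neg_apply, elF_apply, elF_apply, cj_cj, cj_cj]
  ring

theorem Tm_cj (a b : Fin 8) (t : F) : Tm (cj b) (cj a) t = Tm a b (-t) := by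
  unfold Tm
  rw [elF_cj, smul_neg, neg_smul]

theorem cj_ne (a : Fin 8) : cj a ≠ a := by
  revert a
  decide

theorem cj_inj {a b : Fin 8} (h : cj a = cj b) : a = b := by
  rw [← cj_cj a, h, cj_cj]

/-- every elementary matrix is a root element -/
theorem TO_mem (a b : Fin 8) (t : F) : TO a b t ∈ E8 F := by
  by_cases h : a ≠ b ∧ a ≠ cj b
  · obtain ⟨r, hr, hab | hab⟩ := root_of_pair a b h.1 h.2
    · have he : ((epsZ r : ℤ) : F) * (epsZ r : F) = 1 := by
        rw [← Int.cast_mul, epsZ_sq r hr, Int.cast_one]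
      have : TO a b t = xO r (t * (epsZ r : F)) := by
        unfold xO
        rw [if_pos hr, hab.1, hab.2, mul_assoc, he, mul_one]
      rw [this]
      exact xO_mem _ _
    · have he : ((epsZ r : ℤ) : F) * (epsZ r : F) = 1 := by
        rw [← Int.cast_mul, epsZ_sq r hr, Int.cast_one]
      have : TO a b t = xO r (-t * (epsZ r : F)) := by
        apply O8_ext
        rw [TO_val a b h.1 h.2, xO_val r hr, xm_eq_Tm, hab.1, hab.2, Tm_cj, mul_assoc, he, mul_one,
          neg_neg]
      rw [this]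
      exact xO_mem _ _
  · unfold TO
    rw [dif_neg h]
    exact one_mem _

/-- the root elements in `E` -/
def xE (r : ℕ) (t : F) : ↥(E8 F) := ⟨xO r t, xO_mem r t⟩

/-- the matrix of a word -/
theorem word_val (w : List (ℕ × F)) (hw : ∀ p ∈ w, p.1 < 24) :
    ((((w.map fun p => xE p.1 p.2).prod : ↥(E8 F)) : O8 F) : GL (Fin 8) F).val
      = (w.map fun p => xm p.1 p.2).prod := by
  induction w with
  | nil => simp
  | cons p w ih =>
    rw [List.map_cons, List.prod_cons, List.map_cons, List.prod_cons, Subgroup.coe_mul,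
      Subgroup.coe_mul, Units.val_mul, ih (fun q hq => hw q (List.mem_cons_of_mem _ hq))]
    congr 1
    exact xO_val p.1 (hw p List.mem_cons_self) p.2

theorem commWord_lt (r s : ℕ) (hr : r < 24) (hs : s < 24) (h1 : s ≠ r) (h2 : s + r ≠ 23)
    (t u : F) : ∀ p ∈ chevD4.commWord F r s t u, p.1 < 24 := by
  have h := chkComm_all r hr s hs h1 h2
  unfold chkComm at h
  unfold ChevalleyDatum.commWord
  split at h
  · rename_i heq
    rw [heq]
    simp
  · rename_i k c heq
    rw [heq]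
    rw [Bool.and_eq_true, Bool.and_eq_true, Bool.and_eq_true] at h
    obtain ⟨-, hk⟩ := h
    intro p hp
    simp only [List.map_cons, List.map_nil, List.mem_singleton] at hp
    rw [hp]
    simpa using hk
  · exact absurd h (by simp)

theorem hWord_lt (r : ℕ) (hr : r < 24) (t : F) : ∀ p ∈ chevD4.hWord r t, p.1 < 24 := by
  unfold ChevalleyDatum.hWord ChevalleyDatum.nWord
  rw [neg_d4 r hr]
  intro p hp
  simp only [List.cons_append, List.nil_append, List.mem_cons, List.not_mem_nil, or_false] at hp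
  rcases hp with rfl | rfl | rfl | rfl | rfl | rfl <;> simp <;> omega

/-- the root elements of `O₈⁺` satisfy Steinberg's relations (R1), (R2) -/
def gensE (F : Type*) [Field F] : RootGens chevD4 F ↥(E8 F) where
  X := xE
  X_add := by
    intro r t u _
    apply Subtype.ext
    exact xO_add r t u
  X_comm := by
    intro r s t u hr hs h1 h2
    have hr' : r < 24 := hr
    have hs' : s < 24 := hs
    have h2' : s + r ≠ 23 := by
      rw [neg_d4 r hr'] at h2
      omega
    apply Subtype.ext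
    apply Subtype.ext
    apply Units.ext
    rw [word_val _ (commWord_lt r s hr' hs' h1 h2' t u), ← xm_comm r s hr' hs' h1 h2' t u]
    have e1 : (xE s u : ↥(E8 F))⁻¹ = xE s (-u) := by
      apply Subtype.ext
      exact xO_inv s u
    have e2 : (xE r t : ↥(E8 F))⁻¹ = xE r (-t) := by
      apply Subtype.ext
      exact xO_inv r t
    rw [e1, e2]
    show ((xO s (-u) * xO r (-t) * xO s u * xO r t : O8 F) : GL (Fin 8) F).val = _
    rw [Subgroup.coe_mul, Subgroup.coe_mul, Subgroup.coe_mul, Units.val_mul, Units.val_mul,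
      Units.val_mul, xO_val s hs', xO_val r hr', xO_val s hs', xO_val r hr']
  gen := by
    rw [eq_top_iff]
    rintro ⟨g, hg⟩ -
    have key : ∀ g : O8 F, ∀ hg : g ∈ E8 F, (⟨g, hg⟩ : ↥(E8 F)) ∈ Subgroup.closure
        {g : ↥(E8 F) | ∃ (r : ℕ) (t : F), r < chevD4.nroots ∧ g = xE r t} := by
      intro g hg
      unfold E8 at hg
      induction hg using Subgroup.closure_induction with
      | mem y hy =>
        obtain ⟨r, t, hr, rfl⟩ := hy
        exact Subgroup.subset_closure ⟨r, t, hr, rfl⟩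
      | one => exact one_mem _
      | mul a b ha hb iha ihb =>
        have : (⟨a * b, mul_mem ha hb⟩ : ↥(E8 F)) = ⟨a, ha⟩ * ⟨b, hb⟩ := rfl
        rw [this]
        exact mul_mem iha ihb
      | inv a ha iha =>
        have : (⟨a⁻¹, inv_mem ha⟩ : ↥(E8 F)) = (⟨a, ha⟩ : ↥(E8 F))⁻¹ := rfl
        rw [this]
        exact inv_mem iha
    exact key g hg

theorem hE_val (r : ℕ) (hr : r < 24) (t : F) (ht : t ≠ 0) :
    ((((gensE F).hbar r t : ↥(E8 F)) : O8 F) : GL (Fin 8) F).val = hval r t := by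
  unfold RootGens.hbar RootGens.word
  show ((((chevD4.hWord r t).map fun p => xE p.1 p.2).prod : ↥(E8 F)) : O8 F).val.val = _
  rw [word_val _ (hWord_lt r hr t), hWord_prod r hr t ht]

theorem gensE_hR3 (r : ℕ) (t₁ t₂ : F) (hr : r < chevD4.nroots) (h1 : t₁ ≠ 0) (h2 : t₂ ≠ 0) :
    (gensE F).hbar r t₁ * (gensE F).hbar r t₂ = (gensE F).hbar r (t₁ * t₂) := by
  have hr' : r < 24 := hr
  apply Subtype.ext
  apply O8_ext
  rw [Subgroup.coe_mul, Subgroup.coe_mul, Units.val_mul, hE_val r hr' t₁ h1, hE_val r hr' t₂ h2,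
    hE_val r hr' (t₁ * t₂) (mul_ne_zero h1 h2), hval_mul r hr' t₁ t₂ h1 h2]

/-- the homomorphism from the Steinberg group onto `E` -/
noncomputable def stToE (F : Type*) [Field F] : chevD4.SteinbergGroup F →* ↥(E8 F) :=
  (gensE F).fromSt (by simp) gensE_hR3

theorem stToE_stGen (r : ℕ) (hr : r < 24) (t : F) : stToE F (chevD4.stGen F r t) = xE r t :=
  (gensE F).fromSt_stGen (by simp) gensE_hR3 r hr t

theorem stToE_surjective : Function.Surjective (stToE F) := by
  rw [← MonoidHom.range_eq_top, eq_top_iff, ← (gensE F).gen, Subgroup.closure_le]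
  rintro g ⟨r, t, hr, rfl⟩
  exact ⟨chevD4.stGen F r t, stToE_stGen r hr t⟩

end Cfsg.Agent.Lib.Helper5.D4Orth
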