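import Mathlib
import Cfsg.Prelude.Def_Classical
import Cfsg.Agent.Lib.Helper5.D4Orth.Gens

set_option autoImplicit false
set_option linter.unusedSimpArgs false
set_option linter.unusedTactic false
set_option linter.unreachableTactic false

/-!
The action of `O₈⁺(F)` on column vectors.
-/

namespace Cfsg.Agent.Lib.Helper5.D4Orth

open Cfsg Cfsg.Lie Matrix

variable {F : Type*} [Field F]

/-- the action on column vectors -/
def act (g : O8 F) (v : Fin 8 → F) : Fin 8 → F :=
  ((g : GL (Fin 8) F) : Matrix (Fin 8) (Fin 8) F) *ᵥ v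

theorem act_mul (g h : O8 F) (v : Fin 8 → F) : act (g * h) v = act g (act h v) := by
  unfold act
  rw [Subgroup.coe_mul, Units.val_mul, Matrix.mulVec_mulVec]

theorem act_one (v : Fin 8 → F) : act (1 : O8 F) v = v := by
  unfold act
  simp

theorem act_inv_act (g : O8 F) (v : Fin 8 → F) : act g⁻¹ (act g v) = v := by
  rw [← act_mul, inv_mul_cancel, act_one]

theorem act_add (g : O8 F) (u v : Fin 8 → F) : act g (u + v) = act g u + act g v :=
  Matrix.mulVec_add _ u v

theorem act_smul (g : O8 F) (c : F) (v : Fin 8 → F) : act g (c • v) = c • act g v :=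
  Matrix.mulVec_smul _ c v

theorem act_zero (g : O8 F) : act g (0 : Fin 8 → F) = 0 := Matrix.mulVec_zero _

theorem Q8_act (g : O8 F) (v : Fin 8 → F) : Q8 (act g v) = Q8 v := g.2 v v

theorem act_TO (a b : Fin 8) (h1 : a ≠ b) (h2 : a ≠ cj b) (t : F) (v : Fin 8 → F) (i : Fin 8) :
    act (TO a b t) v i
      = v i + t * ((if i = a then v b else 0) - (if i = cj b then v (cj a) else 0)) := by
  unfold act
  rw [TO_val a b h1 h2, Tm_mulVec]

/-- the polar form -/
def B8 (u v : Fin 8 → F) : F :=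
  u 0 * v 4 + u 4 * v 0 + u 1 * v 5 + u 5 * v 1 + u 2 * v 6 + u 6 * v 2 + u 3 * v 7 + u 7 * v 3

theorem Q8_add (u v : Fin 8 → F) : Q8 (u + v) = Q8 u + Q8 v + B8 u v := by
  unfold Q8 B8
  simp only [Pi.add_apply]
  ring

theorem B8_act (g : O8 F) (u v : Fin 8 → F) : B8 (act g u) (act g v) = B8 u v := by
  have h1 := Q8_add (act g u) (act g v)
  rw [← act_add, Q8_act, Q8_act, Q8_act, Q8_add] at h1
  exact (add_left_cancel h1).symm

/-- the standard basis -/
def bv (j : Fin 8) : Fin 8 → F := Pi.single j 1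

theorem bv_apply (j i : Fin 8) : (bv j : Fin 8 → F) i = if i = j then 1 else 0 := by
  unfold bv
  rw [Pi.single_apply]

theorem bv_ne_zero (j : Fin 8) : (bv j : Fin 8 → F) ≠ 0 := by
  intro h
  have := congrFun h j
  rw [bv_apply, if_pos rfl] at this
  exact one_ne_zero this

theorem act_ne_zero (g : O8 F) (v : Fin 8 → F) (hv : v ≠ 0) : act g v ≠ 0 := by
  intro h
  apply hv
  rw [← act_inv_act g v, h, act_zero]

theorem B8_bv (u : Fin 8 → F) (j : Fin 8) : B8 u (bv j) = u (cj j) := by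
  unfold B8
  simp only [bv_apply]
  fin_cases j <;> simp [cj]

theorem Q8_bv (j : Fin 8) : Q8 (bv j : Fin 8 → F) = 0 := by
  unfold Q8
  simp only [bv_apply]
  fin_cases j <;> simp

theorem act_bv (g : O8 F) (i j : Fin 8) :
    act g (bv j) i = ((g : GL (Fin 8) F) : Matrix (Fin 8) (Fin 8) F) i j := by
  unfold act bv
  rw [Matrix.mulVec_single_one]
  rfl

theorem ext_act {g h : O8 F} (e : ∀ j, act g (bv j) = act h (bv j)) : g = h := by
  apply O8_ext
  ext i j
  rw [← act_bv, ← act_bv, e]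

theorem cj_ne' (a : Fin 8) : a ≠ cj a := fun h => cj_ne a h.symm

/-- elements fixing the basis vectors with index in `P` -/
def FixP (P : Fin 8 → Prop) (g : O8 F) : Prop := ∀ i, P i → act g (bv i) = bv i

theorem FixP.one (P : Fin 8 → Prop) : FixP P (1 : O8 F) := fun _ _ => act_one _

theorem FixP.mul {P : Fin 8 → Prop} {g h : O8 F} (hg : FixP P g) (hh : FixP P h) :
    FixP P (g * h) := by
  intro i hi
  rw [act_mul, hh i hi, hg i hi]

theorem FixP.inv {P : Fin 8 → Prop} {g : O8 F} (hg : FixP P g) : FixP P g⁻¹ := by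
  intro i hi
  have := act_inv_act g (bv i)
  rw [hg i hi] at this
  exact this

theorem FixP.mono {P P' : Fin 8 → Prop} {g : O8 F} (hg : FixP P g) (h : ∀ i, P' i → P i) :
    FixP P' g := fun i hi => hg i (h i hi)

/-- the coordinates with index in `P` are preserved -/
theorem FixP.coord {P : Fin 8 → Prop} (hP : ∀ i, P i → P (cj i)) {g : O8 F} (hg : FixP P g)
    (v : Fin 8 → F) (i : Fin 8) (hi : P i) : act g v i = v i := by
  have h1 : B8 (act g v) (act g (bv (cj i))) = B8 v (bv (cj i)) := B8_act g v _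
  rw [hg (cj i) (hP i hi), B8_bv, B8_bv, cj_cj] at h1
  exact h1

theorem not_cj {P : Fin 8 → Prop} (hP : ∀ i, P i → P (cj i)) {a : Fin 8} (ha : ¬ P a) :
    ¬ P (cj a) := by
  intro h
  apply ha
  have := hP _ h
  rwa [cj_cj] at this

theorem TO_fixP {P : Fin 8 → Prop} (a b : Fin 8) (hb : ¬ P b) (ha : ¬ P (cj a)) (t : F) :
    FixP P (TO a b t) := by
  by_cases h : a ≠ b ∧ a ≠ cj b
  · intro i hi
    funext j
    rw [act_TO a b h.1 h.2, bv_apply, bv_apply, bv_apply]
    have e1 : ¬ b = i := fun e => hb (e ▸ hi)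
    have e2 : ¬ cj a = i := fun e => ha (e ▸ hi)
    rw [if_neg e1, if_neg e2]
    simp
  · unfold TO
    rw [dif_neg h]
    exact FixP.one P

end Cfsg.Agent.Lib.Helper5.D4Orth
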