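import Mathlib
import Cfsg.Prelude.Def_Classical
import Cfsg.Agent.Lib.Helper5.D4Orth.Act

set_option autoImplicit false
set_option linter.unusedSimpArgs false
set_option linter.unusedTactic false
set_option linter.unreachableTactic false

/-!
Transitivity properties of the subgroup `E` of `O₈⁺(F)`: every isometry can be moved by `E` to one
fixing `e₁, e₂, e₃, f₁, f₂, f₃`.
-/

namespace Cfsg.Agent.Lib.Helper5.D4Orth

open Cfsg Cfsg.Lie Matrix

variable {F : Type*} [Field F]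

/-- clearing the coordinates in a list `L` with the help of a non-zero pivot coordinate `p` -/
theorem exists_kill (p : Fin 8) (L : List (Fin 8)) (hL : ∀ c ∈ L, c ≠ p ∧ c ≠ cj p)
    (v : Fin 8 → F) (hp : v p ≠ 0) :
    ∃ x ∈ E8 F, act x v p = v p ∧ (∀ c ∈ L, act x v c = 0) ∧
      (∀ i, i ∉ L → i ≠ cj p → act x v i = v i) ∧
      (∀ u : Fin 8 → F, u p = 0 → (∀ c ∈ L, u (cj c) = 0) → act x u = u) := by
  induction L with
  | nil =>
    refine ⟨1, one_mem _, by rw [act_one], ?_, ?_, ?_⟩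
    · intro c hc
      simp at hc
    · intro i _ _
      rw [act_one]
    · intro u _ _
      rw [act_one]
  | cons c L ih =>
    obtain ⟨x', hx', k1, k2, k3, k4⟩ := ih (fun d hd => hL d (List.mem_cons_of_mem _ hd))
    obtain ⟨hcp, hcp'⟩ := hL c List.mem_cons_self
    refine ⟨TO c p (-(act x' v c) / v p) * x', mul_mem (TO_mem _ _ _) hx', ?_, ?_, ?_, ?_⟩
    · rw [act_mul, act_TO c p hcp hcp', if_neg hcp.symm, if_neg (cj_ne' p), sub_zero, mul_zero,
        add_zero, k1]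
    · intro d hd
      rw [act_mul, act_TO c p hcp hcp', if_neg (hL d hd).2, sub_zero]
      by_cases hdc : d = c
      · rw [if_pos hdc, hdc, k1]
        field_simp
        ring
      · rw [if_neg hdc, mul_zero, add_zero]
        rcases List.mem_cons.1 hd with h | h
        · exact absurd h hdc
        · exact k2 d h
    · intro i hi hi'
      rw [act_mul, act_TO c p hcp hcp', if_neg hi', sub_zero]
      have hic : i ≠ c := fun e => hi (e ▸ List.mem_cons_self)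
      rw [if_neg hic, mul_zero, add_zero]
      exact k3 i (fun h => hi (List.mem_cons_of_mem _ h)) hi'
    · intro u hu1 hu2
      rw [act_mul, k4 u hu1 (fun d hd => hu2 d (List.mem_cons_of_mem _ hd))]
      funext i
      rw [act_TO c p hcp hcp', hu1, hu2 c List.mem_cons_self]
      simp

/-- the value of the form on a vector supported on a hyperbolic pair -/
theorem Q8_of_support (a : Fin 8) (w : Fin 8 → F) (h : ∀ i, i ≠ a → i ≠ cj a → w i = 0) :
    Q8 w = w a * w (cj a) := by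
  have h0 := h 0
  have h1 := h 1
  have h2 := h 2
  have h3 := h 3
  have h4 := h 4
  have h5 := h 5
  have h6 := h 6
  have h7 := h 7
  unfold Q8
  fin_cases a <;> simp [cj] at h0 h1 h2 h3 h4 h5 h6 h7 ⊢ <;>
    simp [h0, h1, h2, h3, h4, h5, h6, h7, mul_comm]

/-- a non-zero vector can be moved so that its `a`-coordinate is non-zero -/
theorem exists_coord_ne {P : Fin 8 → Prop} (hP : ∀ i, P i → P (cj i)) (a c₀ : Fin 8)
    (ha : ¬ P a) (hc₀ : ¬ P c₀) (h1 : c₀ ≠ a) (h2 : c₀ ≠ cj a) (v : Fin 8 → F) (hv : v ≠ 0)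
    (hvP : ∀ i, P i → v i = 0) : ∃ x ∈ E8 F, FixP P x ∧ act x v a ≠ 0 := by
  by_cases hva : v a ≠ 0
  · exact ⟨1, one_mem _, FixP.one P, by rw [act_one]; exact hva⟩
  rw [not_not] at hva
  have ha' : ¬ P (cj a) := not_cj hP ha
  -- the case of a non-zero coordinate other than `cj a`
  have key : ∀ w : Fin 8 → F, w a = 0 → (∀ i, P i → w i = 0) → (∃ c, c ≠ cj a ∧ w c ≠ 0) →
      ∃ x ∈ E8 F, FixP P x ∧ act x w a ≠ 0 := by
    intro w hwa hwP ⟨c, hc1, hc2⟩
    have hca : c ≠ a := fun e => hc2 (e ▸ hwa)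
    have hcP : ¬ P c := fun h => hc2 (hwP c h)
    have hac : a ≠ cj c := fun e => hc1 (by rw [e, cj_cj])
    refine ⟨TO a c 1, TO_mem _ _ _, TO_fixP a c hcP ha' 1, ?_⟩
    rw [act_TO a c hca.symm hac, if_pos rfl, if_neg hac, hwa]
    simpa using hc2
  by_cases h : ∃ c, c ≠ cj a ∧ v c ≠ 0
  · exact key v hva hvP h
  · push Not at h
    have hcja : v (cj a) ≠ 0 := by
      intro h0
      apply hv
      funext i
      by_cases hi : i = cj a
      · rw [hi, h0]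
        rfl
      · exact h i hi
    have hc₀a : c₀ ≠ cj (cj a) := by rw [cj_cj]; exact h1
    have hcc : cj c₀ ≠ cj a := fun e => h1 (cj_inj e)
    set x₁ : O8 F := TO c₀ (cj a) 1 with hx₁
    have hfix₁ : FixP P x₁ := TO_fixP c₀ (cj a) ha' (not_cj hP hc₀) 1
    have e1 : act x₁ v c₀ = v (cj a) := by
      rw [hx₁, act_TO c₀ (cj a) h2 hc₀a, if_pos rfl, if_neg hc₀a, h c₀ h2]
      ring
    have e2 : act x₁ v a = 0 := by
      rw [hx₁, act_TO c₀ (cj a) h2 hc₀a, if_neg h1.symm, cj_cj, if_pos rfl, hva, h (cj c₀) hcc]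
      ring
    have hwP : ∀ i, P i → act x₁ v i = 0 := by
      intro i hi
      rw [hfix₁.coord hP v i hi, hvP i hi]
    obtain ⟨x₂, hx₂, hfix₂, hne⟩ := key (act x₁ v) e2 hwP ⟨c₀, h2, by rw [e1]; exact hcja⟩
    exact ⟨x₂ * x₁, mul_mem hx₂ (TO_mem _ _ _), hfix₂.mul hfix₁, by rw [act_mul]; exact hne⟩

/-- rescaling a basis vector -/
theorem exists_scale {P : Fin 8 → Prop} (hP : ∀ i, P i → P (cj i)) (a c₀ : Fin 8)
    (ha : ¬ P a) (hc₀ : ¬ P c₀) (h1 : c₀ ≠ a) (h2 : c₀ ≠ cj a) (α : F) (hα : α ≠ 0) :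
    ∃ x ∈ E8 F, FixP P x ∧ act x (α • bv a) = bv a := by
  have ha' : ¬ P (cj a) := not_cj hP ha
  have hc₀' : ¬ P (cj c₀) := not_cj hP hc₀
  have hac : a ≠ cj c₀ := fun e => h2 (by rw [e, cj_cj])
  refine ⟨TO c₀ a (-1) * TO a c₀ (1 - α) * TO c₀ a α⁻¹,
    mul_mem (mul_mem (TO_mem _ _ _) (TO_mem _ _ _)) (TO_mem _ _ _),
    ((TO_fixP c₀ a ha hc₀' _).mul (TO_fixP a c₀ hc₀ ha' _)).mul (TO_fixP c₀ a ha hc₀' _), ?_⟩
  have d1 : a ≠ c₀ := h1.symm
  have d2 : cj a ≠ c₀ := h2.symm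
  have d3 : cj c₀ ≠ a := hac.symm
  have d4 : cj a ≠ a := cj_ne a
  have d5 : a ≠ cj a := cj_ne' a
  have d6 : cj c₀ ≠ c₀ := cj_ne c₀
  have d7 : c₀ ≠ cj c₀ := cj_ne' c₀
  have e1 : act (TO c₀ a α⁻¹) (α • bv a) = α • bv a + bv c₀ := by
    funext i
    rw [act_TO c₀ a h1 h2]
    simp only [Pi.add_apply, Pi.smul_apply, bv_apply, smul_eq_mul]
    by_cases hi1 : i = c₀
    · subst hi1
      simp [h1, h2, hac, d1, d2, d3, d4, d5, d6, d7, hα]
    · by_cases hi2 : i = cj a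
      · subst hi2
        simp [h1, h2, hac, d1, d2, d3, d4, d5, d6, d7, hα, hi1]
      · simp [hi1, hi2]
  have e2 : act (TO a c₀ (1 - α)) (α • bv a + bv c₀) = bv a + bv c₀ := by
    funext i
    rw [act_TO a c₀ h1.symm hac]
    simp only [Pi.add_apply, Pi.smul_apply, bv_apply, smul_eq_mul]
    by_cases hi1 : i = a
    · subst hi1
      simp [h1, h2, hac, d1, d2, d3, d4, d5, d6, d7, hα]
    · by_cases hi2 : i = cj c₀
      · subst hi2
        simp [h1, h2, hac, d1, d2, d3, d4, d5, d6, d7, hα, hi1]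
      · simp [hi1, hi2]
  have e3 : act (TO c₀ a (-1 : F)) (bv a + bv c₀) = bv a := by
    funext i
    rw [act_TO c₀ a h1 h2]
    simp only [Pi.add_apply, bv_apply]
    by_cases hi1 : i = c₀
    · subst hi1
      simp [h1, h2, hac, d1, d2, d3, d4, d5, d6, d7, hα]
    · by_cases hi2 : i = cj a
      · subst hi2
        simp [h1, h2, hac, d1, d2, d3, d4, d5, d6, d7, hα, hi1]
      · simp [hi1, hi2]
  rw [act_mul, act_mul, e1, e2, e3]

/-- the free coordinates other than `a` and `cj a` -/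
def freeList (P : Fin 8 → Prop) [DecidablePred P] (a : Fin 8) : List (Fin 8) :=
  (List.finRange 8).filter fun c => ¬ P c ∧ c ≠ a ∧ c ≠ cj a

theorem mem_freeList (P : Fin 8 → Prop) [DecidablePred P] (a c : Fin 8) :
    c ∈ freeList P a ↔ ¬ P c ∧ c ≠ a ∧ c ≠ cj a := by
  unfold freeList
  simp

/-- the subgroup `E` is transitive on the non-zero singular vectors supported away from `P` -/
theorem exists_act_eq_bv {P : Fin 8 → Prop} [DecidablePred P] (hP : ∀ i, P i → P (cj i))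
    (a c₀ : Fin 8) (ha : ¬ P a) (hc₀ : ¬ P c₀) (h1 : c₀ ≠ a) (h2 : c₀ ≠ cj a) (v : Fin 8 → F)
    (hv : v ≠ 0) (hvP : ∀ i, P i → v i = 0) (hQ : Q8 v = 0) :
    ∃ x ∈ E8 F, FixP P x ∧ act x v = bv a := by
  obtain ⟨x₁, hx₁, hf₁, hne⟩ := exists_coord_ne hP a c₀ ha hc₀ h1 h2 v hv hvP
  have hL : ∀ c ∈ freeList P a, c ≠ a ∧ c ≠ cj a := fun c hc => ((mem_freeList P a c).1 hc).2
  obtain ⟨x₂, hx₂, k1, k2, k3, k4⟩ := exists_kill a (freeList P a) hL (act x₁ v) hne
  have hf₂ : FixP P x₂ := by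
    intro i hi
    apply k4
    · rw [bv_apply, if_neg (fun e : a = i => ha (e ▸ hi))]
    · intro c hc
      have hcP : ¬ P (cj c) := not_cj hP ((mem_freeList P a c).1 hc).1
      rw [bv_apply, if_neg (fun e : cj c = i => hcP (e ▸ hi))]
  have hf₂₁ : FixP P (x₂ * x₁) := hf₂.mul hf₁
  have hsupp : ∀ i, i ≠ a → i ≠ cj a → act (x₂ * x₁) v i = 0 := by
    intro i hi1 hi2
    by_cases hi : P i
    · rw [hf₂₁.coord hP v i hi, hvP i hi]
    · rw [act_mul]
      exact k2 i ((mem_freeList P a i).2 ⟨hi, hi1, hi2⟩)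
  have hQ' : Q8 (act (x₂ * x₁) v) = 0 := by rw [Q8_act, hQ]
  rw [Q8_of_support a _ hsupp] at hQ'
  have hα : act (x₂ * x₁) v a ≠ 0 := by
    rw [act_mul, k1]
    exact hne
  have hcja : act (x₂ * x₁) v (cj a) = 0 := by
    rcases mul_eq_zero.1 hQ' with h | h
    · exact absurd h hα
    · exact h
  have hform : act (x₂ * x₁) v = (act (x₂ * x₁) v a) • bv a := by
    funext i
    rw [Pi.smul_apply, bv_apply, smul_eq_mul]
    by_cases hi1 : i = a
    · rw [if_pos hi1, mul_one, hi1]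
    · rw [if_neg hi1, mul_zero]
      by_cases hi2 : i = cj a
      · rw [hi2, hcja]
      · exact hsupp i hi1 hi2
  obtain ⟨x₃, hx₃, hf₃, h3⟩ := exists_scale hP a c₀ ha hc₀ h1 h2 _ hα
  refine ⟨x₃ * (x₂ * x₁), mul_mem hx₃ (mul_mem hx₂ hx₁), hf₃.mul hf₂₁, ?_⟩
  rw [act_mul, hform, h3]

/-- moving the second vector of a hyperbolic pair -/
theorem exists_fix_partner {P : Fin 8 → Prop} [DecidablePred P] (hP : ∀ i, P i → P (cj i))
    (a : Fin 8) (ha : ¬ P a) (w : Fin 8 → F) (hwP : ∀ i, P i → w i = 0) (hw1 : w (cj a) = 1)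
    (hQ : Q8 w = 0) :
    ∃ y ∈ E8 F, FixP P y ∧ act y (bv a) = bv a ∧ act y w = bv (cj a) := by
  have ha' : ¬ P (cj a) := not_cj hP ha
  have hL : ∀ c ∈ freeList P a, c ≠ cj a ∧ c ≠ cj (cj a) := by
    intro c hc
    rw [cj_cj]
    exact ⟨((mem_freeList P a c).1 hc).2.2, ((mem_freeList P a c).1 hc).2.1⟩
  have hne : w (cj a) ≠ 0 := by
    rw [hw1]
    exact one_ne_zero
  obtain ⟨y, hy, k1, k2, k3, k4⟩ := exists_kill (cj a) (freeList P a) hL w hne
  have hf : FixP P y := by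
    intro i hi
    apply k4
    · rw [bv_apply, if_neg (fun e : cj a = i => ha' (e ▸ hi))]
    · intro c hc
      have hcP : ¬ P (cj c) := not_cj hP ((mem_freeList P a c).1 hc).1
      rw [bv_apply, if_neg (fun e : cj c = i => hcP (e ▸ hi))]
  have hfa : act y (bv a) = bv a := by
    apply k4
    · rw [bv_apply, if_neg (cj_ne a)]
    · intro c hc
      have : cj c ≠ a := fun e => ((mem_freeList P a c).1 hc).2.2 (by rw [← e, cj_cj])
      rw [bv_apply, if_neg this]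
  refine ⟨y, hy, hf, hfa, ?_⟩
  have hsupp : ∀ i, i ≠ a → i ≠ cj a → act y w i = 0 := by
    intro i hi1 hi2
    by_cases hi : P i
    · rw [hf.coord hP w i hi, hwP i hi]
    · exact k2 i ((mem_freeList P a i).2 ⟨hi, hi1, hi2⟩)
  have hQ' : Q8 (act y w) = 0 := by rw [Q8_act, hQ]
  rw [Q8_of_support a _ hsupp, k1, hw1, mul_one] at hQ'
  funext i
  rw [bv_apply]
  by_cases hi2 : i = cj a
  · rw [if_pos hi2, hi2, k1, hw1]
  · rw [if_neg hi2]
    by_cases hi1 : i = a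
    · rw [hi1, hQ']
    · exact hsupp i hi1 hi2

/-- one step of the reduction: making an isometry fix one more hyperbolic pair -/
theorem exists_fix_step {P : Fin 8 → Prop} [DecidablePred P] (hP : ∀ i, P i → P (cj i))
    (a c₀ : Fin 8) (ha : ¬ P a) (hc₀ : ¬ P c₀) (h1 : c₀ ≠ a) (h2 : c₀ ≠ cj a) (g : O8 F)
    (hg : FixP P g) : ∃ x ∈ E8 F, FixP (fun i => P i ∨ i = a ∨ i = cj a) (x * g) := by
  have ha' : ¬ P (cj a) := not_cj hP ha
  have hvP : ∀ i, P i → act g (bv a) i = 0 := by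
    intro i hi
    rw [hg.coord hP _ i hi, bv_apply, if_neg (fun e : i = a => ha (e ▸ hi))]
  obtain ⟨x₁, hx₁, hf₁, e1⟩ := exists_act_eq_bv hP a c₀ ha hc₀ h1 h2 (act g (bv a))
    (act_ne_zero g _ (bv_ne_zero a)) hvP (by rw [Q8_act, Q8_bv])
  have hg₁ : FixP P (x₁ * g) := hf₁.mul hg
  have ea : act (x₁ * g) (bv a) = bv a := by rw [act_mul, e1]
  have hwP : ∀ i, P i → act (x₁ * g) (bv (cj a)) i = 0 := by
    intro i hi
    rw [hg₁.coord hP _ i hi, bv_apply, if_neg (fun e : i = cj a => ha' (e ▸ hi))]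
  have hw1 : act (x₁ * g) (bv (cj a)) (cj a) = 1 := by
    have := B8_act (x₁ * g) (bv (cj a)) (bv a)
    rw [ea, B8_bv, B8_bv, bv_apply, if_pos rfl] at this
    exact this
  obtain ⟨y, hy, hfy, e2, e3⟩ := exists_fix_partner hP a ha _ hwP hw1 (by rw [Q8_act, Q8_bv])
  refine ⟨y * x₁, mul_mem hy hx₁, ?_⟩
  intro i hi
  rw [mul_assoc, act_mul]
  rcases hi with hi | hi | hi
  · rw [hg₁ i hi, hfy i hi]
  · rw [hi, ea, e2]
  · rw [hi, e3]

/-- the coordinates `e₁, e₂, e₃, f₁, f₂, f₃` -/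
def P3 (i : Fin 8) : Prop := i ≠ 3 ∧ i ≠ 7

instance : DecidablePred P3 := fun i => by unfold P3; infer_instance

/-- every isometry can be moved by `E` to one fixing `e₁, e₂, e₃, f₁, f₂, f₃` -/
theorem exists_fix_P3 (g : O8 F) : ∃ x ∈ E8 F, FixP P3 (x * g) := by
  have hP0 : ∀ i : Fin 8, (fun _ : Fin 8 => False) i → (fun _ : Fin 8 => False) (cj i) :=
    fun _ h => h
  obtain ⟨x₁, hx₁, hf₁⟩ := exists_fix_step (P := fun _ => False) hP0 0 1 (fun h => h)
    (fun h => h) (by decide) (by decide) g (fun _ h => h.elim)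
  have hP1 : ∀ i : Fin 8, (fun i : Fin 8 => False ∨ i = 0 ∨ i = cj 0) i →
      (fun i : Fin 8 => False ∨ i = 0 ∨ i = cj 0) (cj i) := by decide
  obtain ⟨x₂, hx₂, hf₂⟩ := exists_fix_step hP1 1 2 (by decide) (by decide) (by decide)
    (by decide) (x₁ * g) hf₁
  have hP2 : ∀ i : Fin 8, (fun i : Fin 8 => (False ∨ i = 0 ∨ i = cj 0) ∨ i = 1 ∨ i = cj 1) i →
      (fun i : Fin 8 => (False ∨ i = 0 ∨ i = cj 0) ∨ i = 1 ∨ i = cj 1) (cj i) := by decide
  obtain ⟨x₃, hx₃, hf₃⟩ := exists_fix_step hP2 2 3 (by decide) (by decide) (by decide)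
    (by decide) (x₂ * (x₁ * g)) hf₂
  refine ⟨x₃ * x₂ * x₁, mul_mem (mul_mem hx₃ hx₂) hx₁, ?_⟩
  have e : x₃ * x₂ * x₁ * g = x₃ * (x₂ * (x₁ * g)) := by group
  rw [e]
  apply hf₃.mono
  unfold P3
  decide

end Cfsg.Agent.Lib.Helper5.D4Orth
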