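import Mathlib
import Cfsg.Prelude.Def_Classical
import Cfsg.Agent.Lib.Helper5.D4Orth.Trans

set_option autoImplicit false
set_option linter.unusedSimpArgs false
set_option linter.unusedTactic false
set_option linter.unreachableTactic false

/-!
The isometries fixing `e₁, e₂, e₃, f₁, f₂, f₃`, and the normality of `E` in `O₈⁺(F)`.
-/

namespace Cfsg.Agent.Lib.Helper5.D4Orth

open Cfsg Cfsg.Lie Matrix

variable {F : Type*} [Field F]

theorem cj_vals : cj 0 = 4 ∧ cj 1 = 5 ∧ cj 2 = 6 ∧ cj 3 = 7 ∧ cj 4 = 0 ∧ cj 5 = 1 ∧ cj 6 = 2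
    ∧ cj 7 = 3 := by decide

/-- diagonal isometries -/
def dO (δ : Fin 8 → F) (hδ : ∀ i, δ i * δ (cj i) = 1) : O8 F :=
  ⟨⟨Matrix.diagonal δ, Matrix.diagonal fun i => δ (cj i), by
      rw [Matrix.diagonal_mul_diagonal]
      simp only [hδ]
      exact Matrix.diagonal_one, by
      rw [Matrix.diagonal_mul_diagonal]
      have : ∀ i, δ (cj i) * δ i = 1 := fun i => by rw [mul_comm, hδ]
      simp only [this]
      exact Matrix.diagonal_one⟩, by
    intro v _
    show Q8 (Matrix.diagonal δ *ᵥ v) = Q8 v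
    unfold Q8
    simp only [Matrix.mulVec_diagonal]
    have h0 := hδ 0
    have h1 := hδ 1
    have h2 := hδ 2
    have h3 := hδ 3
    rw [cj_vals.1] at h0
    rw [cj_vals.2.1] at h1
    rw [cj_vals.2.2.1] at h2
    rw [cj_vals.2.2.2.1] at h3
    linear_combination (v 0 * v 4) * h0 + (v 1 * v 5) * h1 + (v 2 * v 6) * h2 + (v 3 * v 7) * h3⟩

theorem act_dO (δ : Fin 8 → F) (hδ : ∀ i, δ i * δ (cj i) = 1) (v : Fin 8 → F) (i : Fin 8) :
    act (dO δ hδ) v i = δ i * v i := by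
  unfold act dO
  exact Matrix.mulVec_diagonal δ v i

/-- the transposition of `e₄` and `f₄` -/
def sw (i : Fin 8) : Fin 8 := if i = 3 then 7 else if i = 7 then 3 else i

theorem sw_sw : ∀ i, sw (sw i) = i := by decide

theorem sw_cj : ∀ i, sw (cj i) = cj (sw i) := by decide

theorem sw_inj {a b : Fin 8} (h : sw a = sw b) : a = b := by
  rw [← sw_sw a, h, sw_sw]

/-- the permutation matrix of `sw` -/
def swM : Matrix (Fin 8) (Fin 8) F := Matrix.of fun i j => if j = sw i then 1 else 0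

theorem swM_mulVec (v : Fin 8 → F) (i : Fin 8) : ((swM : Matrix (Fin 8) (Fin 8) F) *ᵥ v) i
    = v (sw i) := by
  unfold Matrix.mulVec dotProduct swM
  simp only [Matrix.of_apply, ite_mul, one_mul, zero_mul]
  rw [Finset.sum_ite_eq' Finset.univ (sw i)]
  simp

theorem ext_mulVec {A B : Matrix (Fin 8) (Fin 8) F} (h : ∀ v, A *ᵥ v = B *ᵥ v) : A = B := by
  ext i j
  have := congrFun (h (Pi.single j 1)) i
  rwa [Matrix.mulVec_single_one, Matrix.mulVec_single_one] at this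

theorem swM_mul_swM : (swM : Matrix (Fin 8) (Fin 8) F) * swM = 1 := by
  apply ext_mulVec
  intro v
  funext i
  rw [← Matrix.mulVec_mulVec, swM_mulVec, swM_mulVec, sw_sw, Matrix.one_mulVec]

/-- the reflection interchanging `e₄` and `f₄` -/
def sg : O8 F :=
  ⟨⟨swM, swM, swM_mul_swM, swM_mul_swM⟩, by
    intro v _
    show Q8 ((swM : Matrix (Fin 8) (Fin 8) F) *ᵥ v) = Q8 v
    unfold Q8
    simp only [swM_mulVec]
    have e : sw 0 = 0 ∧ sw 1 = 1 ∧ sw 2 = 2 ∧ sw 3 = 7 ∧ sw 4 = 4 ∧ sw 5 = 5 ∧ sw 6 = 6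
        ∧ sw 7 = 3 := by decide
    rw [e.1, e.2.1, e.2.2.1, e.2.2.2.1, e.2.2.2.2.1, e.2.2.2.2.2.1, e.2.2.2.2.2.2.1,
      e.2.2.2.2.2.2.2]
    ring⟩

theorem act_sg (v : Fin 8 → F) (i : Fin 8) : act (sg : O8 F) v i = v (sw i) := by
  unfold act sg
  exact swM_mulVec v i

theorem sg_mul_sg : (sg : O8 F) * sg = 1 := by
  apply O8_ext
  exact swM_mul_swM

theorem sg_inv : (sg : O8 F)⁻¹ = sg := by
  rw [inv_eq_iff_mul_eq_one, sg_mul_sg]

/-- conjugating an elementary matrix by a diagonal isometry -/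
theorem dO_mul_TO (δ : Fin 8 → F) (hδ : ∀ i, δ i * δ (cj i) = 1) (a b : Fin 8) (h1 : a ≠ b)
    (h2 : a ≠ cj b) (t : F) :
    dO δ hδ * TO a b t = TO a b (δ a * δ (cj b) * t) * dO δ hδ := by
  apply ext_act
  intro j
  funext i
  rw [act_mul, act_mul, act_dO, act_TO a b h1 h2, act_TO a b h1 h2, act_dO, act_dO, act_dO]
  by_cases hi1 : i = a
  · subst hi1
    simp only [eq_self_iff_true, if_true, h2, if_false]
    linear_combination (-(δ i * t * bv j b)) * hδ b
  · by_cases hi2 : i = cj b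
    · subst hi2
      simp only [eq_self_iff_true, if_true, hi1, if_false]
      linear_combination (δ (cj b) * t * bv j (cj a)) * hδ a
    · simp only [hi1, hi2, if_false]
      ring

/-- conjugating an elementary matrix by the reflection -/
theorem sg_mul_TO (a b : Fin 8) (h1 : a ≠ b) (h2 : a ≠ cj b) (t : F) :
    sg * TO a b t = TO (sw a) (sw b) t * sg := by
  have h1' : sw a ≠ sw b := fun e => h1 (sw_inj e)
  have h2' : sw a ≠ cj (sw b) := by
    rw [← sw_cj]
    exact fun e => h2 (sw_inj e)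
  apply ext_act
  intro j
  funext i
  rw [act_mul, act_mul, act_sg, act_TO a b h1 h2, act_TO (sw a) (sw b) h1' h2', act_sg, act_sg,
    act_sg]
  simp only [sw_cj, sw_sw]
  have e1 : (sw i = a) ↔ (i = sw a) := ⟨fun h => by rw [← h, sw_sw], fun h => by rw [h, sw_sw]⟩
  have e2 : (sw i = cj b) ↔ (i = cj (sw b)) :=
    ⟨fun h => by rw [← sw_cj, ← h, sw_sw], fun h => by rw [h, ← sw_cj, sw_sw]⟩
  simp only [e1, e2]

/-- conjugation preserves `E` as soon as it maps the elementary matrices into `E` -/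
theorem conj_mem_of_TO (g : O8 F)
    (h : ∀ a b : Fin 8, ∀ t : F, a ≠ b → a ≠ cj b → g * TO a b t * g⁻¹ ∈ E8 F)
    (x : O8 F) (hx : x ∈ E8 F) : g * x * g⁻¹ ∈ E8 F := by
  unfold E8 at hx
  induction hx using Subgroup.closure_induction with
  | mem y hy =>
    obtain ⟨r, t, hr, rfl⟩ := hy
    unfold xO
    rw [if_pos hr]
    exact h _ _ _ (valid_tab r hr).1 (valid_tab r hr).2
  | one =>
    simp only [mul_one, mul_inv_cancel]
    exact one_mem _
  | mul a b _ _ ha hb =>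
    have e : g * (a * b) * g⁻¹ = (g * a * g⁻¹) * (g * b * g⁻¹) := by group
    rw [e]
    exact mul_mem ha hb
  | inv a _ ha =>
    have e : g * a⁻¹ * g⁻¹ = (g * a * g⁻¹)⁻¹ := by group
    rw [e]
    exact inv_mem ha

theorem dO_conj_mem (δ : Fin 8 → F) (hδ : ∀ i, δ i * δ (cj i) = 1) (x : O8 F) (hx : x ∈ E8 F) :
    dO δ hδ * x * (dO δ hδ)⁻¹ ∈ E8 F := by
  apply conj_mem_of_TO _ _ x hx
  intro a b t h1 h2
  rw [dO_mul_TO δ hδ a b h1 h2, mul_inv_cancel_right]
  exact TO_mem _ _ _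

theorem sg_conj_mem (x : O8 F) (hx : x ∈ E8 F) : sg * x * (sg : O8 F)⁻¹ ∈ E8 F := by
  apply conj_mem_of_TO _ _ x hx
  intro a b t h1 h2
  rw [sg_mul_TO a b h1 h2, mul_inv_cancel_right]
  exact TO_mem _ _ _

/-- the diagonal of `diag(1,1,1,α,1,1,1,α⁻¹)` -/
def dv (α : F) : Fin 8 → F := fun i => if i = 3 then α else if i = 7 then α⁻¹ else 1

theorem dv_mul (α : F) (hα : α ≠ 0) : ∀ i, dv α i * dv α (cj i) = 1 := by
  intro i
  fin_cases i <;> simp [dv, cj, hα]

theorem P3_cj : ∀ i, P3 i → P3 (cj i) := by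
  unfold P3
  decide

/-- the torus element `diag(1,1,1,α,1,1,1,α⁻¹)` -/
def hD (α : F) (hα : α ≠ 0) : O8 F := dO (dv α) (dv_mul α hα)

/-- the isometries fixing `e₁, e₂, e₃, f₁, f₂, f₃` -/
theorem shape_of_fix (d : O8 F) (hd : FixP P3 d) :
    ∃ (α : F) (hα : α ≠ 0), d = hD α hα ∨ d = sg * hD α hα := by
  have hu : ∀ i, P3 i → act d (bv 3) i = 0 := by
    intro i hi
    rw [hd.coord P3_cj _ i hi, bv_apply, if_neg hi.1]
  have hu' : ∀ i, P3 i → act d (bv 7) i = 0 := by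
    intro i hi
    rw [hd.coord P3_cj _ i hi, bv_apply, if_neg hi.2]
  have hP : ∀ i : Fin 8, i ≠ 3 → i ≠ cj 3 → P3 i := by
    unfold P3
    decide
  have hQ1 : act d (bv 3) 3 * act d (bv 3) 7 = 0 := by
    have := Q8_of_support 3 (act d (bv 3)) (fun i h1 h2 => hu i (hP i h1 h2))
    rw [Q8_act, Q8_bv, cj_vals.2.2.2.1] at this
    exact this.symm
  have hQ2 : act d (bv 7) 3 * act d (bv 7) 7 = 0 := by
    have := Q8_of_support 3 (act d (bv 7)) (fun i h1 h2 => hu' i (hP i h1 h2))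
    rw [Q8_act, Q8_bv, cj_vals.2.2.2.1] at this
    exact this.symm
  have hB : act d (bv 3) 3 * act d (bv 7) 7 + act d (bv 3) 7 * act d (bv 7) 3 = 1 := by
    have := B8_act d (bv 3) (bv 7)
    rw [B8_bv, cj_vals.2.2.2.2.2.2.2, bv_apply, if_pos rfl] at this
    rw [← this]
    unfold B8
    rw [hu' 4 (by unfold P3; decide), hu' 0 (by unfold P3; decide), hu' 5 (by unfold P3; decide),
      hu' 1 (by unfold P3; decide), hu' 6 (by unfold P3; decide), hu' 2 (by unfold P3; decide)]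
    ring
  have hfix : ∀ j, P3 j → act d (bv j) = bv j := hd
  have p0 : P3 0 := by unfold P3; decide
  have p1 : P3 1 := by unfold P3; decide
  have p2 : P3 2 := by unfold P3; decide
  have p4 : P3 4 := by unfold P3; decide
  have p5 : P3 5 := by unfold P3; decide
  have p6 : P3 6 := by unfold P3; decide
  by_cases h7 : act d (bv 3) 7 = 0
  · -- the diagonal case
    rw [h7, zero_mul, add_zero] at hB
    have hα : act d (bv 3) 3 ≠ 0 := left_ne_zero_of_mul_eq_one hB
    have hδ : act d (bv 7) 7 = (act d (bv 3) 3)⁻¹ := eq_inv_of_mul_eq_one_right hB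
    have hγ : act d (bv 7) 3 = 0 := by
      rcases mul_eq_zero.1 hQ2 with h | h
      · exact h
      · rw [hδ] at h
        exact absurd h (inv_ne_zero hα)
    refine ⟨act d (bv 3) 3, hα, Or.inl ?_⟩
    apply ext_act
    intro j
    funext i
    unfold hD
    rw [act_dO]
    fin_cases j
    · rw [show ((⟨0, by omega⟩ : Fin 8)) = 0 from rfl, hfix 0 p0]
      fin_cases i <;> simp [dv, bv_apply]
    · rw [show ((⟨1, by omega⟩ : Fin 8)) = 1 from rfl, hfix 1 p1]
      fin_cases i <;> simp [dv, bv_apply]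
    · rw [show ((⟨2, by omega⟩ : Fin 8)) = 2 from rfl, hfix 2 p2]
      fin_cases i <;> simp [dv, bv_apply]
    · show act d (bv 3) i = dv (act d (bv 3) 3) i * bv 3 i
      fin_cases i <;> simp [dv, bv_apply, hu 0 p0, hu 1 p1, hu 2 p2, hu 4 p4, hu 5 p5, hu 6 p6, h7]
    · rw [show ((⟨4, by omega⟩ : Fin 8)) = 4 from rfl, hfix 4 p4]
      fin_cases i <;> simp [dv, bv_apply]
    · rw [show ((⟨5, by omega⟩ : Fin 8)) = 5 from rfl, hfix 5 p5]
      fin_cases i <;> simp [dv, bv_apply]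
    · rw [show ((⟨6, by omega⟩ : Fin 8)) = 6 from rfl, hfix 6 p6]
      fin_cases i <;> simp [dv, bv_apply]
    · show act d (bv 7) i = dv (act d (bv 3) 3) i * bv 7 i
      fin_cases i <;>
        simp [dv, bv_apply, hu' 0 p0, hu' 1 p1, hu' 2 p2, hu' 4 p4, hu' 5 p5, hu' 6 p6, hγ, hδ]
  · -- the anti-diagonal case
    have hα : act d (bv 3) 3 = 0 := by
      rcases mul_eq_zero.1 hQ1 with h | h
      · exact h
      · exact absurd h h7
    rw [hα, zero_mul, zero_add] at hB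
    have hγ : act d (bv 7) 3 = (act d (bv 3) 7)⁻¹ := eq_inv_of_mul_eq_one_right hB
    have hδ : act d (bv 7) 7 = 0 := by
      rcases mul_eq_zero.1 hQ2 with h | h
      · rw [hγ] at h
        exact absurd h (inv_ne_zero h7)
      · exact h
    refine ⟨act d (bv 3) 7, h7, Or.inr ?_⟩
    apply ext_act
    intro j
    funext i
    unfold hD
    rw [act_mul, act_sg, act_dO]
    fin_cases j
    · rw [show ((⟨0, by omega⟩ : Fin 8)) = 0 from rfl, hfix 0 p0]
      fin_cases i <;> simp [dv, bv_apply, sw]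
    · rw [show ((⟨1, by omega⟩ : Fin 8)) = 1 from rfl, hfix 1 p1]
      fin_cases i <;> simp [dv, bv_apply, sw]
    · rw [show ((⟨2, by omega⟩ : Fin 8)) = 2 from rfl, hfix 2 p2]
      fin_cases i <;> simp [dv, bv_apply, sw]
    · show act d (bv 3) i = dv (act d (bv 3) 7) (sw i) * bv 3 (sw i)
      fin_cases i <;>
        simp [dv, bv_apply, sw, hu 0 p0, hu 1 p1, hu 2 p2, hu 4 p4, hu 5 p5, hu 6 p6, hα]
    · rw [show ((⟨4, by omega⟩ : Fin 8)) = 4 from rfl, hfix 4 p4]
      fin_cases i <;> simp [dv, bv_apply, sw]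
    · rw [show ((⟨5, by omega⟩ : Fin 8)) = 5 from rfl, hfix 5 p5]
      fin_cases i <;> simp [dv, bv_apply, sw]
    · rw [show ((⟨6, by omega⟩ : Fin 8)) = 6 from rfl, hfix 6 p6]
      fin_cases i <;> simp [dv, bv_apply, sw]
    · show act d (bv 7) i = dv (act d (bv 3) 7) (sw i) * bv 7 (sw i)
      fin_cases i <;>
        simp [dv, bv_apply, sw, hu' 0 p0, hu' 1 p1, hu' 2 p2, hu' 4 p4, hu' 5 p5, hu' 6 p6, hγ, hδ]

/-- every isometry is the product of an element of `E` and one of the special isometries -/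
theorem exists_shape (g : O8 F) :
    ∃ x ∈ E8 F, ∃ (α : F) (hα : α ≠ 0), x * g = hD α hα ∨ x * g = sg * hD α hα := by
  obtain ⟨x, hx, hf⟩ := exists_fix_P3 g
  exact ⟨x, hx, shape_of_fix _ hf⟩

/-- `E` is normal in `O₈⁺` -/
instance E8_normal : (E8 F).Normal := by
  constructor
  intro n hn g
  obtain ⟨x, hx, α, hα, h | h⟩ := exists_shape g
  · have h1 := dO_conj_mem (dv α) (dv_mul α hα) n hn
    have e2 : g * n * g⁻¹ = x⁻¹ * ((x * g) * n * (x * g)⁻¹) * x := by group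
    rw [e2, h]
    exact mul_mem (mul_mem (inv_mem hx) h1) hx
  · have h1 := sg_conj_mem _ (dO_conj_mem (dv α) (dv_mul α hα) n hn)
    have e2 : g * n * g⁻¹ = x⁻¹ * ((x * g) * n * (x * g)⁻¹) * x := by group
    have e3 : sg * hD α hα * n * (sg * hD α hα)⁻¹
        = sg * (hD α hα * n * (hD α hα)⁻¹) * (sg : O8 F)⁻¹ := by group
    rw [e2, h, e3]
    exact mul_mem (mul_mem (inv_mem hx) h1) hx

end Cfsg.Agent.Lib.Helper5.D4Orth
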