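import Mathlib
import Cfsg.Prelude.Def_Classical
import Cfsg.Agent.Lib.Helper5.D4Orth.Diag
import Cfsg.Agent.Lib.Helper5.StPres.Perfect

set_option autoImplicit false
set_option linter.unusedSimpArgs false
set_option linter.unusedTactic false
set_option linter.unreachableTactic false

/-!
`Ω₈⁺(F)`, the commutator subgroup of `O₈⁺(F)`, is the subgroup `E` generated by the root elements.
-/

namespace Cfsg.Agent.Lib.Helper5.D4Orth

open Cfsg Cfsg.Lie Matrix Cfsg.Agent.Lib.Helper5.StPres Cfsg.Agent.Lib.Helper5.ChevStruct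

variable {F : Type*} [Field F]

/-- the integer matrix `E_{aa} + E_{bb}` -/
def dgZ (a b : Fin 8) : Matrix (Fin 8) (Fin 8) ℤ :=
  Matrix.of fun i j => if i = j ∧ (i = a ∨ i = b) then 1 else 0

theorem chk_h : (eq8 (mul8 (NZ 12) (NZ 11)) (dgZ 2 3) && eq8 (mul8 (NZ 11) (NZ 12)) (dgZ 7 6)
    && eq8 (mul8 (NZ 13) (NZ 10)) (dgZ 2 7) && eq8 (mul8 (NZ 10) (NZ 13)) (dgZ 3 6)) = true := by
  decide +kernel

theorem castM_dgZ (a b : Fin 8) :
    castM F (dgZ a b) = Matrix.diagonal (fun i => if i = a ∨ i = b then (1 : F) else 0) := by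
  ext i j
  unfold castM dgZ
  simp only [RingHom.mapMatrix_apply, Matrix.map_apply, Matrix.of_apply, Int.coe_castRingHom,
    Int.cast_ite, Int.cast_one, Int.cast_zero, Matrix.diagonal_apply]
  by_cases hij : i = j
  · simp [hij]
  · simp [hij]

theorem hval_12 (γ : F) : hval 12 γ = Matrix.diagonal ![1, 1, γ, γ, 1, 1, γ⁻¹, γ⁻¹] := by
  have h := chk_h
  simp only [Bool.and_eq_true] at h
  obtain ⟨⟨⟨h1, h2⟩, -⟩, -⟩ := h
  have e1 : (NF 12 : Matrix (Fin 8) (Fin 8) F) * NF 11 = castM F (dgZ 2 3) := by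
    unfold NF
    rw [← castM_mul8, eq8_iff _ _ h1]
  have e2 : (NF 11 : Matrix (Fin 8) (Fin 8) F) * NF 12 = castM F (dgZ 7 6) := by
    unfold NF
    rw [← castM_mul8, eq8_iff _ _ h2]
  unfold hval
  rw [show 23 - 12 = 11 from rfl, e1, e2, castM_dgZ, castM_dgZ, ← Matrix.diagonal_one,
    ← Matrix.diagonal_smul, ← Matrix.diagonal_smul, Matrix.diagonal_add, Matrix.diagonal_add]
  congr 1
  funext i
  fin_cases i <;> simp

theorem hval_13 (γ : F) : hval 13 γ = Matrix.diagonal ![1, 1, γ, γ⁻¹, 1, 1, γ⁻¹, γ] := by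
  have h := chk_h
  simp only [Bool.and_eq_true] at h
  obtain ⟨⟨-, h3⟩, h4⟩ := h
  have e1 : (NF 13 : Matrix (Fin 8) (Fin 8) F) * NF 10 = castM F (dgZ 2 7) := by
    unfold NF
    rw [← castM_mul8, eq8_iff _ _ h3]
  have e2 : (NF 10 : Matrix (Fin 8) (Fin 8) F) * NF 13 = castM F (dgZ 3 6) := by
    unfold NF
    rw [← castM_mul8, eq8_iff _ _ h4]
  unfold hval
  rw [show 23 - 13 = 10 from rfl, e1, e2, castM_dgZ, castM_dgZ, ← Matrix.diagonal_one,
    ← Matrix.diagonal_smul, ← Matrix.diagonal_smul, Matrix.diagonal_add, Matrix.diagonal_add]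
  congr 1
  funext i
  fin_cases i <;> simp

theorem hD_val (α : F) (hα : α ≠ 0) :
    (((hD α hα : O8 F) : GL (Fin 8) F) : Matrix (Fin 8) (Fin 8) F) = Matrix.diagonal (dv α) := rfl

/-- the squares of the torus `diag(1,1,1,α,1,1,1,α⁻¹)` lie in `E` -/
theorem hD_sq_mem (γ : F) (hγ : γ ≠ 0) : hD (γ ^ 2) (pow_ne_zero 2 hγ) ∈ E8 F := by
  have e : hD (γ ^ 2) (pow_ne_zero 2 hγ)
      = (((gensE F).hbar 12 γ * (gensE F).hbar 13 γ⁻¹ : ↥(E8 F)) : O8 F) := by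
    apply O8_ext
    rw [Subgroup.coe_mul, Subgroup.coe_mul, Units.val_mul, hE_val 12 (by norm_num) γ hγ,
      hE_val 13 (by norm_num) γ⁻¹ (inv_ne_zero hγ), hval_12, hval_13, hD_val,
      Matrix.diagonal_mul_diagonal]
    congr 1
    funext i
    fin_cases i <;> simp [dv] <;> field_simp
  rw [e]
  exact SetLike.coe_mem _

theorem hD_mul (α β : F) (hα : α ≠ 0) (hβ : β ≠ 0) :
    hD α hα * hD β hβ = hD (α * β) (mul_ne_zero hα hβ) := by
  apply ext_act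
  intro j
  funext i
  unfold hD
  rw [act_mul, act_dO, act_dO, act_dO, ← mul_assoc]
  congr 1
  fin_cases i <;> simp [dv, mul_comm]

theorem hD_one : hD (1 : F) one_ne_zero = 1 := by
  apply ext_act
  intro j
  funext i
  unfold hD
  rw [act_dO, act_one]
  fin_cases i <;> simp [dv]

theorem hD_congr (α β : F) (hα : α ≠ 0) (h : α = β) : hD α hα = hD β (h ▸ hα) := by
  subst h
  rfl

theorem hD_inv (α : F) (hα : α ≠ 0) : (hD α hα)⁻¹ = hD α⁻¹ (inv_ne_zero hα) := by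
  rw [inv_eq_iff_mul_eq_one, hD_mul, hD_congr _ 1 _ (mul_inv_cancel₀ hα), hD_one]

theorem sg_mul_hD (α : F) (hα : α ≠ 0) : sg * hD α hα = hD α⁻¹ (inv_ne_zero hα) * sg := by
  apply ext_act
  intro j
  funext i
  unfold hD
  rw [act_mul, act_mul, act_sg, act_dO, act_dO, act_sg]
  congr 1
  fin_cases i <;> simp [dv, sw]

/-- the images of the torus elements in `O₈⁺ / E` -/
def tauQ (α : F) (hα : α ≠ 0) : O8 F ⧸ E8 F := QuotientGroup.mk (hD α hα)

/-- the image of the reflection in `O₈⁺ / E` -/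
def sigQ : O8 F ⧸ E8 F := QuotientGroup.mk sg

theorem tauQ_comm (α β : F) (hα : α ≠ 0) (hβ : β ≠ 0) : Commute (tauQ α hα) (tauQ β hβ) := by
  unfold tauQ Commute SemiconjBy
  rw [← QuotientGroup.mk_mul, ← QuotientGroup.mk_mul, hD_mul, hD_mul,
    hD_congr _ _ _ (mul_comm α β)]

theorem tauQ_inv_eq (α : F) (hα : α ≠ 0) : tauQ α⁻¹ (inv_ne_zero hα) = tauQ α hα := by
  unfold tauQ
  rw [QuotientGroup.eq, hD_inv, hD_mul]
  have : hD (α⁻¹⁻¹ * α) (mul_ne_zero (inv_ne_zero (inv_ne_zero hα)) hα)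
      = hD (α ^ 2) (pow_ne_zero 2 hα) := hD_congr _ _ _ (by rw [inv_inv]; ring)
  rw [this]
  exact hD_sq_mem α hα

theorem sigQ_tauQ_comm (α : F) (hα : α ≠ 0) : Commute (sigQ : O8 F ⧸ E8 F) (tauQ α hα) := by
  unfold Commute SemiconjBy
  have h1 : (sigQ : O8 F ⧸ E8 F) * tauQ α hα = tauQ α⁻¹ (inv_ne_zero hα) * sigQ := by
    unfold tauQ sigQ
    rw [← QuotientGroup.mk_mul, ← QuotientGroup.mk_mul, sg_mul_hD]
  rw [h1, tauQ_inv_eq]

/-- the image of an isometry in `O₈⁺ / E` -/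
theorem mk_shape (g : O8 F) : ∃ (α : F) (hα : α ≠ 0),
    (QuotientGroup.mk g : O8 F ⧸ E8 F) = tauQ α hα ∨
      (QuotientGroup.mk g : O8 F ⧸ E8 F) = sigQ * tauQ α hα := by
  obtain ⟨x, hx, α, hα, h | h⟩ := exists_shape g
  · refine ⟨α, hα, Or.inl ?_⟩
    have : (QuotientGroup.mk g : O8 F ⧸ E8 F) = QuotientGroup.mk (x * g) := by
      rw [QuotientGroup.mk_mul, (QuotientGroup.eq_one_iff x).2 hx, one_mul]
    rw [this, h]
    rfl
  · refine ⟨α, hα, Or.inr ?_⟩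
    have : (QuotientGroup.mk g : O8 F ⧸ E8 F) = QuotientGroup.mk (x * g) := by
      rw [QuotientGroup.mk_mul, (QuotientGroup.eq_one_iff x).2 hx, one_mul]
    rw [this, h, QuotientGroup.mk_mul]
    rfl

/-- the commutator subgroup lies in `E` -/
theorem commutator_le_E8 : commutator (O8 F) ≤ E8 F := by
  rw [commutator_def, Subgroup.commutator_le]
  intro g₁ _ g₂ _
  rw [← QuotientGroup.eq_one_iff, commutatorElement_def, QuotientGroup.mk_mul,
    QuotientGroup.mk_mul, QuotientGroup.mk_mul, QuotientGroup.mk_inv, QuotientGroup.mk_inv]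
  suffices hc : Commute (QuotientGroup.mk g₁ : O8 F ⧸ E8 F) (QuotientGroup.mk g₂) by
    rw [hc.eq]
    group
  have hss : Commute (sigQ : O8 F ⧸ E8 F) sigQ := Commute.refl _
  obtain ⟨α, hα, h1 | h1⟩ := mk_shape g₁ <;> obtain ⟨β, hβ, h2 | h2⟩ := mk_shape g₂ <;>
    rw [h1, h2]
  · exact tauQ_comm α β hα hβ
  · exact Commute.mul_right (sigQ_tauQ_comm α hα).symm (tauQ_comm α β hα hβ)
  · exact Commute.mul_left (sigQ_tauQ_comm β hβ) (tauQ_comm α β hα hβ)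
  · exact Commute.mul_left (Commute.mul_right hss (sigQ_tauQ_comm β hβ))
      (Commute.mul_right (sigQ_tauQ_comm α hα).symm (tauQ_comm α β hα hβ))

/-- `E` is perfect -/
theorem E8_perfect : commutator ↥(E8 F) = ⊤ :=
  Cfsg.Agent.Lib.Helper5.StPres.perfect_of_checkPerf (gensE F) _
    Cfsg.Agent.Lib.Helper5.ChevSym.chkPerf_D4

/-- `Ω₈⁺(F) = E` -/
theorem commutator_eq_E8 : commutator (O8 F) = E8 F := by
  apply le_antisymm commutator_le_E8
  intro x hx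
  have h1 : (⟨x, hx⟩ : ↥(E8 F)) ∈ commutator ↥(E8 F) := by
    rw [E8_perfect]
    exact Subgroup.mem_top _
  rw [commutator_def] at h1 ⊢
  have h2 := Subgroup.map_commutator (⊤ : Subgroup ↥(E8 F)) ⊤ (E8 F).subtype
  have h3 : x ∈ Subgroup.map (E8 F).subtype ⁅(⊤ : Subgroup ↥(E8 F)), ⊤⁆ := ⟨_, h1, rfl⟩
  rw [h2] at h3
  exact Subgroup.commutator_mono le_top le_top h3

/-- `E` is not commutative -/
theorem E8_not_comm : ∃ x y : ↥(E8 F), x * y ≠ y * x := by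
  refine ⟨⟨TO 0 1 1, TO_mem _ _ _⟩, ⟨TO 1 2 1, TO_mem _ _ _⟩, fun h => ?_⟩
  have h01 : (0 : Fin 8) ≠ 1 ∧ (0 : Fin 8) ≠ cj 1 := by decide
  have h12 : (1 : Fin 8) ≠ 2 ∧ (1 : Fin 8) ≠ cj 2 := by decide
  have e1 : act (TO 0 1 (1 : F) * TO 1 2 1) (bv 2) 0 = 1 := by
    rw [act_mul]
    simp only [act_TO 0 1 h01.1 h01.2, act_TO 1 2 h12.1 h12.2]
    simp [bv_apply, cj]
  have e2 : act (TO 1 2 (1 : F) * TO 0 1 1) (bv 2) 0 = 0 := by
    rw [act_mul]
    simp only [act_TO 0 1 h01.1 h01.2, act_TO 1 2 h12.1 h12.2]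
    simp [bv_apply, cj]
  have h' := congrArg (fun z : ↥(E8 F) => act (z : O8 F) (bv 2) 0) h
  simp only [Subgroup.coe_mul] at h'
  rw [e1, e2] at h'
  exact one_ne_zero h'

end Cfsg.Agent.Lib.Helper5.D4Orth
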