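import Mathlib
import Cfsg.Prelude.Def_Classical
import Cfsg.Prelude.Def_ChevB2
import Cfsg.Agent.Lib.Helper5.D4Orth.Omega
import Cfsg.Agent.Lib.Helper5.B2Orth.AbsIso
import Cfsg.Agent.Lib.Helper5.IsomReindex
import Cfsg.Agent.Lib.Helper5.StPres.StMain
import Cfsg.Agent.Lib.Helper5.ChevSimple

set_option autoImplicit false

/-!
`D₄(F) ≅ PΩ₈⁺(F)`.
-/

namespace Cfsg.Agent.Lib.Helper5.D4Orth

open Cfsg Cfsg.Lie Matrix Cfsg.Agent.Lib.Helper5.StPres Cfsg.Agent.Lib.Helper5.ChevStruct
  Cfsg.Agent.Lib.Helper5.IsomReindex Cfsg.Agent.Lib.Helper5.B2Orth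

variable {F : Type*} [Field F]

/-- the coordinates of the form `x₁y₁ + x₂y₂ + x₃y₃ + x₄y₄` -/
def sig8 : Fin 8 ≃ Fin 4 ⊕ Fin 4 where
  toFun := ![Sum.inl 0, Sum.inl 1, Sum.inl 2, Sum.inl 3, Sum.inr 0, Sum.inr 1, Sum.inr 2,
    Sum.inr 3]
  invFun := fun x => match x with
    | Sum.inl i => ![0, 1, 2, 3] i
    | Sum.inr i => ![4, 5, 6, 7] i
  left_inv := by
    intro i
    fin_cases i <;> rfl
  right_inv := by
    rintro (i | i)
    · fin_cases i <;> rfl
    · fin_cases i <;> rfl

theorem quadFormPlus_eq (v : Fin 4 ⊕ Fin 4 → F) :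
    Cfsg.quadFormPlus 4 F v = Q8 (v ∘ sig8) := by
  unfold Cfsg.quadFormPlus Q8
  rw [Fin.sum_univ_four]
  rfl

/-- the isometry group of `x₁y₁ + x₂y₂ + x₃y₃ + x₄y₄` in the two coordinate systems -/
noncomputable def o8Equiv (F : Type*) [Field F] :
    O8 F ≃* ↥(isometryGroup F (Cfsg.quadFormPlus 4 F)) :=
  isometryGroupReindexMul sig8 (Q8 (F := F)) (Cfsg.quadFormPlus 4 F) quadFormPlus_eq

theorem map_commutator_equiv {G G' : Type*} [Group G] [Group G'] (e : G ≃* G') :
    (commutator G).map e.toMonoidHom = commutator G' := by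
  rw [commutator_def, commutator_def, Subgroup.map_commutator,
    Subgroup.map_top_of_surjective _ e.surjective]

/-- `D₄(F) ≅ PΩ₈⁺(F)` -/
theorem d4_equiv_pomega :
    Nonempty (↥(chevD4.group F) ≃* Cfsg.POmega F (Cfsg.quadFormPlus 4 F)) := by
  have hD4 : chevD4 ∈ Seven := by simp
  obtain ⟨θ, hθ, hker, -⟩ := st_main chevD4 hD4 F
  have hsimple := (group_simple (F := F) chevD4 hD4 (by
    intro h
    exfalso
    rcases h with h | h
    · have := congrArg ChevalleyDatum.rank h
      revert this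
      decide
    · have := congrArg ChevalleyDatum.rank h
      revert this
      decide)).1
  let ψ : chevD4.SteinbergGroup F →* ↥(isometryGroup F (Cfsg.quadFormPlus 4 F)) :=
    (o8Equiv F).toMonoidHom.comp ((E8 F).subtype.comp (stToE F))
  have hrange : ψ.range = commutator ↥(isometryGroup F (Cfsg.quadFormPlus 4 F)) := by
    rw [MonoidHom.range_comp, MonoidHom.range_comp, MonoidHom.range_eq_top.2 stToE_surjective,
      ← MonoidHom.range_eq_map, Subgroup.range_subtype, ← commutator_eq_E8,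
      map_commutator_equiv]
  -- the commutator subgroup is not abelian
  have hnc : ∃ x y : ↥(commutator ↥(isometryGroup F (Cfsg.quadFormPlus 4 F))),
      x * y ≠ y * x := by
    obtain ⟨x, y, hxy⟩ := E8_not_comm (F := F)
    have mem : ∀ z : ↥(E8 F), (o8Equiv F) (z : O8 F) ∈
        commutator ↥(isometryGroup F (Cfsg.quadFormPlus 4 F)) := by
      intro z
      rw [← map_commutator_equiv (o8Equiv F), commutator_eq_E8]
      exact ⟨z, z.2, rfl⟩
    refine ⟨⟨_, mem x⟩, ⟨_, mem y⟩, fun h => hxy ?_⟩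
    have h' := congrArg Subtype.val h
    simp only [Subgroup.coe_mul] at h'
    rw [← map_mul, ← map_mul] at h'
    apply Subtype.ext
    exact (o8Equiv F).injective h'
  exact nonempty_equiv_of_central_quotients θ hθ hker hsimple _ ψ hrange hnc

end Cfsg.Agent.Lib.Helper5.D4Orth
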